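import Mathlib

/-!
Two groups generated by invariant sets on which they act faithfully by conjugation are isomorphic as
soon as the sets correspond as conjugation quandles.
-/

set_option autoImplicit false
set_option linter.all false

namespace H51.FStep

universe u v

variable {G : Type u} [Group G] {D : Set G}

/-- The conjugation action on an invariant set. -/
def conjPerm (hD : ∀ g : G, ∀ x ∈ D, g * x * g⁻¹ ∈ D) : G →* Equiv.Perm D where
  toFun g :=
    { toFun := fun x => ⟨g * x * g⁻¹, hD g x x.2⟩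
      invFun := fun x => ⟨g⁻¹ * x * g, by simpa using hD g⁻¹ x x.2⟩
      left_inv := fun x => Subtype.ext (show g⁻¹ * (g * x * g⁻¹) * g = (x : G) by group)
      right_inv := fun x => Subtype.ext (show g * (g⁻¹ * x * g) * g⁻¹ = (x : G) by group) }
  map_one' := Equiv.ext fun x => Subtype.ext (show 1 * (x : G) * 1⁻¹ = x by group)
  map_mul' g h := Equiv.ext fun x => Subtype.ext
    (show g * h * (x : G) * (g * h)⁻¹ = g * (h * x * h⁻¹) * g⁻¹ by group)

theorem conjPerm_inj (hD : ∀ g : G, ∀ x ∈ D, g * x * g⁻¹ ∈ D)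
    (hf : ∀ g : G, (∀ x ∈ D, g * x * g⁻¹ = x) → g = 1) : Function.Injective (conjPerm hD) := by
  rw [injective_iff_map_eq_one]
  intro g hg
  exact hf g fun x hx => congrArg (fun σ : Equiv.Perm D => (σ ⟨x, hx⟩ : G)) hg

/-- The isomorphism carried by a bijection of the generating sets. -/
theorem exists_iso_of_labelled {H : Type v} [Group H] {T : Set H}
    (hD : ∀ g : G, ∀ x ∈ D, g * x * g⁻¹ ∈ D) (hT : ∀ g : H, ∀ x ∈ T, g * x * g⁻¹ ∈ T)
    (hgD : Subgroup.closure D = ⊤) (hgT : Subgroup.closure T = ⊤)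
    (hfD : ∀ g : G, (∀ x ∈ D, g * x * g⁻¹ = x) → g = 1)
    (hfT : ∀ g : H, (∀ x ∈ T, g * x * g⁻¹ = x) → g = 1)
    (ψ : D ≃ T) (hψ : ∀ x y : D, (ψ ⟨(x : G) * y * (x : G)⁻¹, hD x y y.2⟩ : H) =
      ψ x * ψ y * (ψ x : H)⁻¹) : ∃ e : G ≃* H, e '' D = T := by
  classical
  let a := conjPerm hD
  let b : H →* Equiv.Perm D := (Equiv.permCongrHom ψ.symm).toMonoidHom.comp (conjPerm hT)
  have hb : Function.Injective b := (Equiv.permCongrHom ψ.symm).injective.comp (conjPerm_inj hT hfT)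
  have key : ∀ x : D, b (ψ x) = a (x : G) := fun x => Equiv.ext fun y => by
    show ψ.symm _ = _
    rw [Equiv.symm_apply_eq]
    apply Subtype.ext
    show (ψ x : H) * (ψ y : H) * (ψ x : H)⁻¹ = _
    exact (hψ x y).symm
  have hrange : a.range = b.range := by
    refine le_antisymm ?_ ?_
    · rw [MonoidHom.range_eq_map, ← hgD, MonoidHom.map_closure, Subgroup.closure_le]
      rintro _ ⟨x, hx, rfl⟩
      exact ⟨ψ ⟨x, hx⟩, key ⟨x, hx⟩⟩
    · rw [MonoidHom.range_eq_map, ← hgT, MonoidHom.map_closure, Subgroup.closure_le]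
      rintro _ ⟨x, hx, rfl⟩
      refine ⟨(ψ.symm ⟨x, hx⟩ : G), ?_⟩
      rw [← key, Equiv.apply_symm_apply]
  let e : G ≃* H := ((MonoidHom.ofInjective (conjPerm_inj hD hfD)).trans
    (MulEquiv.subgroupCongr hrange)).trans (MonoidHom.ofInjective hb).symm
  have he : ∀ x : D, e (x : G) = ψ x := fun x => hb (by
    show b ((MonoidHom.ofInjective hb).symm _) = _
    rw [MonoidHom.apply_ofInjective_symm, key]
    rfl)
  refine ⟨e, Set.ext fun t => ⟨?_, fun ht => ⟨ψ.symm ⟨t, ht⟩, Subtype.coe_prop _, ?_⟩⟩⟩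
  · rintro ⟨x, hx, rfl⟩
    rw [he ⟨x, hx⟩]
    exact (ψ ⟨x, hx⟩).2
  · rw [he, Equiv.apply_symm_apply]

end H51.FStep
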