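import Mathlib

/-!
A subset of a symplectic space over two elements that is regular and closed on hyperbolic lines is
the set of non-singular points of a quadratic form (for the Fischer step `Sp(2m,2) → O(2m+2,2)`).
-/

set_option autoImplicit false
set_option linter.all false

namespace H51.FStep

open Finset

theorem z2c (i : ZMod 2) : i = 0 ∨ i = 1 := by revert i; decide

theorem z2n (i : ZMod 2) (h : i ≠ 0) : i = 1 := (z2c i).resolve_left h

/-- The sign of a bit. -/
def sgn (i : ZMod 2) : ℤ := if i = 0 then 1 else -1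

theorem sgn_add : ∀ i j : ZMod 2, sgn (i + j) = sgn i * sgn j := by decide

theorem w2 {W : Type*} [AddCommGroup W] [Module (ZMod 2) W] (x : W) : x + x = 0 := by
  rw [← two_smul (ZMod 2) x, show (2 : ZMod 2) = 0 from rfl, zero_smul]

theorem w2_ne {W : Type*} [AddCommGroup W] [Module (ZMod 2) W] {x y : W} (h : x ≠ y) : x + y ≠ 0 :=
  fun e => h (by rw [← sub_eq_zero, sub_eq_add_neg,
    show -y = y from neg_eq_of_add_eq_zero_left (w2 y)]; exact e)

variable {W : Type*} [AddCommGroup W] [Module (ZMod 2) W] [Fintype W] [DecidableEq W]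

/-- The hypotheses on the set. -/
structure LinkSet (B : W →ₗ[ZMod 2] W →ₗ[ZMod 2] ZMod 2) (S : Finset W) (N : ℕ) : Prop where
  alt : ∀ x, B x x = 0
  nd : ∀ x, x ≠ 0 → ∃ y, B x y = 1
  card : Fintype.card W = 4 * N
  four : 4 ≤ N
  even : Even N
  zero : (0 : W) ∉ S
  ne : S.Nonempty
  closed : ∀ x ∈ S, ∀ y ∈ S, B x y = 1 → x + y ∈ S
  reg : ∀ x ∈ S, (S.filter fun y => B x y = 0).card = N

variable {B : W →ₗ[ZMod 2] W →ₗ[ZMod 2] ZMod 2} {S : Finset W} {N : ℕ} (H : LinkSet B S N)
include H

theorem LinkSet.symm (x y : W) : B x y = B y x := by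
  have h := H.alt (x + y)
  rw [map_add, map_add, LinearMap.add_apply, LinearMap.add_apply, H.alt, H.alt, zero_add, add_zero] at h
  have e : ∀ i j : ZMod 2, j + i = 0 → i = j := by decide
  exact e _ _ h

theorem LinkSet.sum_sgn {z : W} (hz : z ≠ 0) : ∑ x, sgn (B x z) = 0 := by
  obtain ⟨y, hy⟩ := H.nd z hz
  have h : ∑ x, sgn (B x z) = ∑ x, sgn (B (x + y) z) :=
    (Fintype.sum_equiv (Equiv.addRight y) _ _ fun x => rfl).symm
  have h2 : ∀ x, sgn (B (x + y) z) = -sgn (B x z) := fun x => by
    rw [map_add, LinearMap.add_apply, sgn_add, H.symm y z, hy]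
    simp [sgn]
  simp only [h2, Finset.sum_neg_distrib] at h
  omega

/-- The character sum of the set. -/
def LinkSet.g (_H : LinkSet B S N) (x : W) : ℤ := ∑ y ∈ S, sgn (B x y)

theorem LinkSet.g_on {x : W} (hx : x ∈ S) : H.g x = 2 * (N : ℤ) - S.card := by
  have h1 : H.g x = ∑ y ∈ S, (2 * (if B x y = 0 then 1 else 0) - 1 : ℤ) :=
    Finset.sum_congr rfl fun y _ => by unfold sgn; split_ifs <;> simp
  rw [h1, Finset.sum_sub_distrib, ← Finset.mul_sum, Finset.sum_boole, H.reg x hx]
  simp

theorem LinkSet.sum_g : ∑ x, H.g x = 0 := by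
  unfold LinkSet.g
  rw [Finset.sum_comm]
  exact Finset.sum_eq_zero fun y hy => H.sum_sgn fun h => H.zero (h ▸ hy)

theorem LinkSet.sum_g_sq : ∑ x, H.g x ^ 2 = 4 * (N : ℤ) * S.card := by
  have h1 : ∀ x, H.g x ^ 2 = ∑ y ∈ S, ∑ z ∈ S, sgn (B x (y + z)) := fun x => by
    rw [pow_two, LinkSet.g, Finset.sum_mul_sum]
    simp only [map_add, sgn_add]
  simp only [h1]
  rw [Finset.sum_comm, Finset.sum_congr rfl fun y hy => Finset.sum_comm]
  rw [Finset.sum_congr rfl (g := fun _ => 4 * (N : ℤ)) fun y hy => ?_]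
  · simp [mul_comm]
  rw [Finset.sum_eq_single y (fun z _ hz => H.sum_sgn (w2_ne (Ne.symm hz))) (fun h => absurd hy h)]
  simp [w2, sgn, H.card]

theorem LinkSet.dist_le : ((S.card : ℤ) - 2 * N) ^ 2 ≤ N := by
  classical
  have hd : Disjoint S {(0 : W)} := Finset.disjoint_singleton_right.mpr H.zero
  set O := (S ∪ {0})ᶜ with hO
  have hsplit : ∀ F : W → ℤ, ∑ x, F x = ∑ x ∈ S, F x + F 0 + ∑ x ∈ O, F x := fun F => by
    rw [← Finset.sum_add_sum_compl (S ∪ {0}), Finset.sum_union hd, Finset.sum_singleton]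
  have hg0 : H.g 0 = S.card := by simp [LinkSet.g, sgn]
  have e1 := H.sum_g
  have e2 := H.sum_g_sq
  rw [hsplit, Finset.sum_congr rfl fun x hx => H.g_on hx, hg0, Finset.sum_const, nsmul_eq_mul] at e1
  rw [hsplit, Finset.sum_congr rfl fun x hx => by rw [H.g_on hx], hg0, Finset.sum_const,
    nsmul_eq_mul] at e2
  have hcs := sq_sum_le_card_mul_sum_sq (s := O) (f := H.g)
  have hOc : (O.card : ℤ) = 4 * N - S.card - 1 := by
    rw [hO, Finset.card_compl, Finset.card_union_of_disjoint hd, Finset.card_singleton, H.card]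
    have hlt : S.card < 4 * N := by
      rw [← H.card]
      exact Finset.card_lt_univ_of_notMem H.zero
    omega
  rw [hOc] at hcs
  set M : ℤ := (S.card : ℤ) with hM
  have hMpos : 0 < M := by
    rw [hM]; exact_mod_cast H.ne.card_pos
  rw [show ∑ x ∈ O, H.g x = -(M * (2 * (N : ℤ) - M)) - M by linarith,
    show ∑ x ∈ O, H.g x ^ 2 = 4 * (N : ℤ) * M - M * (2 * (N : ℤ) - M) ^ 2 - M ^ 2 by linarith] at hcs
  have key : M * (((N : ℤ) - 1) * ((M - 2 * N) ^ 2 - N)) ≤ 0 := by nlinarith
  by_contra hcon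
  have hN : (4 : ℤ) ≤ N := by exact_mod_cast H.four
  have : 0 < M * (((N : ℤ) - 1) * ((M - 2 * N) ^ 2 - N)) :=
    mul_pos hMpos (mul_pos (by omega) (by omega))
  omega

theorem LinkSet.count_noncomm {x : W} (hx : x ≠ 0) :
    ∑ y : W, (if B x y = 1 then (1 : ℤ) else 0) = 2 * N := by
  have h1 : ∀ y, (2 : ℤ) * (if B x y = 1 then 1 else 0) = 1 - sgn (B y x) := fun y => by
    rw [H.symm y x]
    rcases z2c (B x y) with h | h <;> simp [h, sgn]
  have h2 : (2 : ℤ) * ∑ y : W, (if B x y = 1 then (1 : ℤ) else 0) = 4 * N := by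
    rw [Finset.mul_sum, Finset.sum_congr rfl fun y _ => h1 y, Finset.sum_sub_distrib, H.sum_sgn hx]
    simp [H.card]
  omega

theorem LinkSet.reg_noncomm {x : W} (hx : x ∈ S) :
    ∑ y ∈ S, (if B x y = 1 then (1 : ℤ) else 0) = S.card - N := by
  have h1 : ∀ y, (if B x y = 1 then (1 : ℤ) else 0) = 1 - if B x y = 0 then 1 else 0 := fun y => by
    rcases z2c (B x y) with h | h <;> simp [h]
  rw [Finset.sum_congr rfl fun y _ => h1 y, Finset.sum_sub_distrib, Finset.sum_boole, H.reg x hx]
  simp

/-- Every hyperbolic line meets the set. -/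
theorem LinkSet.meets {x y : W} (h : B x y = 1) : x ∈ S ∨ y ∈ S ∨ x + y ∈ S := by
  classical
  let f : W → ℤ := fun x => if x ∈ S then 1 else 0
  let P : W → W → ℤ := fun x y => if B x y = 1 then 1 else 0
  have hPsymm : ∀ x y, P x y = P y x := fun x y => by simp only [P, H.symm x y]
  have hP0 : ∀ y, P 0 y = 0 := fun y => by simp [P]
  -- the three rotations of a line
  have hrot : ∀ (F : W → W → ℤ), ∑ x, ∑ y, P x y * F x y = ∑ x, ∑ y, P x y * F x (x + y) := fun F =>
    Finset.sum_congr rfl fun x _ => (Fintype.sum_equiv (Equiv.addLeft x) _ _ fun y => by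
      show P x y * F x (x + y) = P x (x + y) * F x (x + y)
      simp only [P, map_add, H.alt, zero_add]).symm
  have hswap : ∀ (F : W → W → ℤ), ∑ x, ∑ y, P x y * F x y = ∑ x, ∑ y, P x y * F y x := fun F => by
    rw [Finset.sum_comm]
    simp only [hPsymm]
  have h00 : ∑ x, ∑ y, P x y = (4 * (N : ℤ) - 1) * (2 * N) := by
    rw [← Finset.sum_erase_add _ _ (Finset.mem_univ (0 : W))]
    simp only [hP0, Finset.sum_const_zero, add_zero]
    rw [Finset.sum_congr rfl fun x hx => H.count_noncomm (Finset.ne_of_mem_erase hx), Finset.sum_const,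
      Finset.card_erase_of_mem (Finset.mem_univ _), Finset.card_univ, H.card, nsmul_eq_mul]
    rw [Nat.cast_sub (by have := H.four; omega)]
    push_cast
    ring
  have h1 : ∑ x, ∑ y, P x y * f x = S.card * (2 * (N : ℤ)) := by
    rw [show ∑ x, ∑ y, P x y * f x = ∑ x ∈ S, ∑ y, P x y by
      simp only [f, mul_ite, mul_one, mul_zero]
      simp [Finset.sum_ite_mem, Finset.sum_ite_irrel, Finset.univ_inter]]
    rw [Finset.sum_congr rfl fun x hx => H.count_noncomm fun h => H.zero (h ▸ hx), Finset.sum_const,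
      nsmul_eq_mul]
  have h2 : ∑ x, ∑ y, P x y * (f x * f y) = S.card * ((S.card : ℤ) - N) := by
    rw [show ∑ x, ∑ y, P x y * (f x * f y) = ∑ x ∈ S, ∑ y ∈ S, P x y by
      simp only [f, ite_mul, one_mul, zero_mul, mul_ite, mul_one, mul_zero]
      simp [Finset.sum_ite_mem, Finset.sum_ite_irrel, Finset.univ_inter]]
    rw [Finset.sum_congr rfl fun x hx => H.reg_noncomm hx, Finset.sum_const, nsmul_eq_mul]
  have h3 : ∑ x, ∑ y, P x y * (f x * f y * f (x + y)) = ∑ x, ∑ y, P x y * (f x * f y) :=
    Finset.sum_congr rfl fun x _ => Finset.sum_congr rfl fun y _ => by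
      by_cases hxy : B x y = 1
      · by_cases hx : x ∈ S
        · by_cases hy : y ∈ S
          · simp [f, hx, hy, H.closed x hx y hy hxy]
          · simp [f, hy]
        · simp [f, hx]
      · simp [P, hxy]
  have e1b : ∑ x, ∑ y, P x y * f y = S.card * (2 * (N : ℤ)) := by
    rw [hswap fun _ y => f y]; exact h1
  have e1c : ∑ x, ∑ y, P x y * f (x + y) = S.card * (2 * (N : ℤ)) := by
    rw [← hrot fun _ y => f y]; exact e1b
  have e2b : ∑ x, ∑ y, P x y * (f x * f (x + y)) = S.card * ((S.card : ℤ) - N) := by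
    rw [← hrot fun x y => f x * f y]; exact h2
  have e2c : ∑ x, ∑ y, P x y * (f y * f (x + y)) = S.card * ((S.card : ℤ) - N) := by
    rw [hswap fun x y => f y * f (x + y)]
    rw [← e2b]
    exact Finset.sum_congr rfl fun x _ => Finset.sum_congr rfl fun y _ => by rw [add_comm y x]
  have key : ∑ x, ∑ y, P x y * ((1 - f x) * (1 - f y) * (1 - f (x + y))) =
      2 * (((S.card : ℤ) - 2 * N) ^ 2 - N) := by
    simp only [sub_mul, mul_sub, one_mul, mul_one, Finset.sum_sub_distrib]
    have h3' : ∑ x, ∑ y, P x y * (f x * f y * f (x + y)) = S.card * ((S.card : ℤ) - N) := h3.trans h2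
    simp only [h00, h1, e1b, e1c, h2, e2b, e2c, h3']
    ring
  by_contra hcon
  push Not at hcon
  obtain ⟨hx, hy, hxy⟩ := hcon
  have hnn : ∀ x y, 0 ≤ P x y * ((1 - f x) * (1 - f y) * (1 - f (x + y))) := fun x y =>
    mul_nonneg (by simp only [P]; split_ifs <;> norm_num) (mul_nonneg (mul_nonneg
      (by simp only [f]; split_ifs <;> norm_num) (by simp only [f]; split_ifs <;> norm_num))
      (by simp only [f]; split_ifs <;> norm_num))
  have hle : (1 : ℤ) ≤ ∑ x, ∑ y, P x y * ((1 - f x) * (1 - f y) * (1 - f (x + y))) := by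
    refine le_trans ?_ (Finset.single_le_sum (fun a _ => Finset.sum_nonneg fun b _ => hnn a b)
      (Finset.mem_univ x))
    refine le_trans ?_ (Finset.single_le_sum (fun b _ => hnn x b) (Finset.mem_univ y))
    simp [P, f, h, hx, hy, hxy]
  have := H.dist_le
  omega

omit H in
/-- The indicator of a set. -/
def ind (S : Finset W) (x : W) : ZMod 2 := if x ∈ S then 1 else 0

theorem LinkSet.line {x y : W} (h : B x y = 1) : ind S (x + y) = ind S x + ind S y + 1 := by
  have hm := H.meets h
  have c1 := fun hx hy => H.closed x hx y hy h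
  have c2 : x ∈ S → x + y ∈ S → y ∈ S := fun hx hz => by
    have := H.closed x hx (x + y) hz (by rw [map_add, H.alt, zero_add, h])
    rwa [← add_assoc, w2, zero_add] at this
  have c3 : y ∈ S → x + y ∈ S → x ∈ S := fun hy hz => by
    have := H.closed y hy (x + y) hz (by rw [map_add, H.alt, add_zero, H.symm, h])
    rwa [add_left_comm, w2, add_zero] at this
  unfold ind
  by_cases hx : x ∈ S <;> by_cases hy : y ∈ S <;> by_cases hz : x + y ∈ S <;>
    simp [hx, hy, hz] at * <;> decide

theorem LinkSet.exists_sep {a b : W} (ha : a ≠ 0) (hb : b ≠ 0) (hab : b ≠ a) :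
    ∃ w, B a w = 0 ∧ B b w = 1 := by
  by_contra hcon
  push Not at hcon
  obtain ⟨w₀, hw₀⟩ := H.nd a ha
  have key : ∀ w, B (b + B b w₀ • a) w = 0 := fun w => by
    have h1 := hcon (w + B a w • w₀)
    rw [map_add, map_smul, smul_eq_mul, hw₀, mul_one] at h1
    have h2 := h1 (by rcases z2c (B a w) with e | e <;> rw [e] <;> rfl)
    rw [map_add, map_smul, smul_eq_mul] at h2
    rw [map_add, map_smul, LinearMap.add_apply, LinearMap.smul_apply, smul_eq_mul]
    rcases z2c (B a w) with e | e <;> rcases z2c (B b w₀) with e' | e' <;>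
      rcases z2c (B b w) with e'' | e'' <;> simp [e, e', e''] at h2 ⊢ <;> decide
  obtain ⟨w, hw⟩ : ∃ w, B (b + B b w₀ • a) w = 1 := H.nd _ (by
    rcases z2c (B b w₀) with e | e <;> rw [e]
    · rw [zero_smul, add_zero]; exact hb
    · rw [one_smul]; exact w2_ne hab)
  rw [key] at hw
  exact zero_ne_one hw

/-- The failure of the quadratic identity. -/
def LinkSet.defect (_H : LinkSet B S N) (a b : W) : ZMod 2 :=
  ind S (a + b) + ind S a + ind S b + B a b

theorem LinkSet.defect_comm (a b : W) : H.defect a b = H.defect b a := by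
  unfold LinkSet.defect
  rw [add_comm b a, H.symm b a]; ring

theorem LinkSet.defect_one {a b : W} (h : B a b = 1) : H.defect a b = 0 := by
  unfold LinkSet.defect
  rw [H.line h, h]
  have e : ∀ i j : ZMod 2, i + j + 1 + i + j + 1 = 0 := by decide
  exact e _ _

theorem LinkSet.defect_move {a b c : W} (hac : B a c = 0) (hbc : B b c = 1) :
    H.defect a b = H.defect a (b + c) := by
  have h1 := H.defect_one (a := a + b) (b := c) (by rw [map_add, LinearMap.add_apply, hac, hbc, zero_add])
  have h2 := H.defect_one hbc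
  unfold LinkSet.defect at h1 h2 ⊢
  rw [← add_assoc a b c]
  rw [map_add, LinearMap.add_apply] at h1
  rw [map_add]
  revert h1 h2
  generalize ind S (a + b + c) = p, ind S (a + b) = q, ind S (b + c) = u, ind S a = i, ind S b = j,
    ind S c = k, B a b = l, B a c = n, B b c = o
  revert p q u i j k l n o
  decide

theorem LinkSet.defect_const {a b b' : W} (hb : B a b = 0) (hb' : B a b' = 0) (ha : a ≠ 0)
    (hb0 : b ≠ 0) (hba : b ≠ a) (hb0' : b' ≠ 0) (hba' : b' ≠ a) :
    H.defect a b = H.defect a b' := by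
  have step : ∀ {p q : W}, B a p = 0 → B a q = 0 → B p q = 1 → H.defect a p = H.defect a q := by
    intro p q hp hq hpq
    have := H.defect_move (a := a) (b := p) (c := p + q) (by rw [map_add, hp, hq, add_zero])
      (by rw [map_add, H.alt, zero_add, hpq])
    rwa [← add_assoc, w2, zero_add] at this
  obtain ⟨w1, h1a, h1b⟩ := H.exists_sep ha hb0 hba
  obtain ⟨w2', h2a, h2b⟩ := H.exists_sep ha hb0' hba'
  obtain ⟨w, hwa, hwb, hwb'⟩ : ∃ w, B a w = 0 ∧ B b w = 1 ∧ B b' w = 1 := by
    rcases z2c (B b' w1) with e1 | e1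
    · rcases z2c (B b w2') with e2 | e2
      · exact ⟨w1 + w2', by rw [map_add, h1a, h2a, add_zero], by rw [map_add, h1b, e2, add_zero],
          by rw [map_add, e1, h2b, zero_add]⟩
      · exact ⟨w2', h2a, e2, h2b⟩
    · exact ⟨w1, h1a, h1b, e1⟩
  exact (step hb hwa hwb).trans (step hb' hwa hwb').symm

/-- The indicator is a quadratic form polarising to `B`. -/
theorem LinkSet.quadratic (a b : W) : ind S (a + b) = ind S a + ind S b + B a b := by
  classical
  have h0 : ind S 0 = 0 := if_neg H.zero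
  have done : ∀ a b, H.defect a b = 0 → ind S (a + b) = ind S a + ind S b + B a b := by
    intro a b h
    unfold LinkSet.defect at h
    revert h
    generalize ind S (a + b) = p, ind S a = i, ind S b = j, B a b = l
    revert p i j l
    decide
  refine done a b ?_
  by_cases ha : a = 0
  · subst ha; simp [LinkSet.defect, h0, CharTwo.add_self_eq_zero]
  by_cases hb : b = 0
  · subst hb; simp [LinkSet.defect, h0, CharTwo.add_self_eq_zero]
  by_cases hab : b = a
  · subst hab
    unfold LinkSet.defect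
    rw [w2, h0, H.alt, add_zero, zero_add, CharTwo.add_self_eq_zero]
  rcases z2c (B a b) with hB | hB
  swap
  · exact H.defect_one hB
  by_contra hne
  have hC : H.defect a b = 1 := z2n _ hne
  obtain ⟨x, hx⟩ := H.ne
  have hx0 : x ≠ 0 := fun h => H.zero (h ▸ hx)
  -- a common neighbour of `a` and `x`
  obtain ⟨c, hca, hcx, hc0, hc1, hc2⟩ : ∃ c, B a c = 0 ∧ B x c = 0 ∧ c ≠ 0 ∧ c ≠ a ∧ c ≠ x := by
    let F := Finset.univ.filter fun c : W => B a c = 0 ∧ B x c = 0
    have hF : 4 ≤ F.card := by
      have hcover : (Finset.univ : Finset W).card ≤ 4 * F.card := by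
        rw [mul_comm]
        refine (Finset.card_le_mul_card_image (f := fun c : W => (B a c, B x c)) _ F.card
          (fun p hp => ?_)).trans (Nat.mul_le_mul_left _ ?_)
        · obtain ⟨c₀, -, rfl⟩ := Finset.mem_image.mp hp
          refine Finset.card_le_card_of_injOn (fun c => c + c₀) (fun c hc => ?_)
            (fun c _ c' _ h => add_right_cancel h)
          simp only [Finset.coe_filter, Finset.mem_univ, true_and, Set.mem_ofPred_eq, Prod.mk.injEq] at hc
          simp [F, map_add, hc.1, hc.2, CharTwo.add_self_eq_zero]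
        · exact le_trans (Finset.card_le_univ _) (by simp)
      rw [Finset.card_univ, H.card] at hcover
      have := H.four
      omega
    have : ¬ F ⊆ {0, a, x} := fun hs => by
      have := (Finset.card_le_card hs).trans (Finset.card_le_three)
      omega
    obtain ⟨c, hc, hcn⟩ := Finset.not_subset.mp this
    simp only [Finset.mem_insert, Finset.mem_singleton, not_or] at hcn
    simp only [F, Finset.mem_filter, Finset.mem_univ, true_and] at hc
    exact ⟨c, hc.1, hc.2, hcn⟩
  have hxc : H.defect x c = 1 := by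
    rw [H.defect_comm, H.defect_const (a := c) (b := x) (b' := a) (by rw [H.symm, hcx])
      (by rw [H.symm, hca]) hc0 hx0 (Ne.symm hc2) ha (Ne.symm hc1), H.defect_comm,
      H.defect_const hca hB ha hc0 hc1 hb hab, hC]
  have hall : ∀ y ∈ S.filter (fun y => B x y = 0), y ≠ x → x + y ∈ S := by
    intro y hy hyx
    obtain ⟨hyS, hBy⟩ := Finset.mem_filter.mp hy
    have hy0 : y ≠ 0 := fun h => H.zero (h ▸ hyS)
    have h1 := (H.defect_const hBy hcx hx0 hy0 hyx hc0 hc2).trans hxc
    unfold LinkSet.defect at h1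
    rw [hBy] at h1
    by_contra hn
    simp [ind, hn, hx, hyS] at h1
  have hev : Even ((S.filter (fun y => B x y = 0)).erase x).card := by
    set T := (S.filter (fun y => B x y = 0)).erase x
    have hinv : ∀ y ∈ T, x + y ∈ T := by
      intro y hy
      obtain ⟨hyx, hy'⟩ := Finset.mem_erase.mp hy
      obtain ⟨hyS, hBy⟩ := Finset.mem_filter.mp hy'
      refine Finset.mem_erase.mpr ⟨fun h => H.zero ?_, Finset.mem_filter.mpr
        ⟨hall y hy' hyx, by rw [map_add, H.alt, hBy, add_zero]⟩⟩
      rw [add_eq_left] at h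
      exact h ▸ hyS
    have h1 : ∑ _y ∈ T, (1 : ZMod 2) = 0 :=
      Finset.sum_involution (fun y _ => x + y) (fun _ _ => by decide)
        (fun y _ _ h => hx0 (by rwa [add_eq_right] at h)) hinv
        (fun y _ => by rw [← add_assoc, w2, zero_add])
    rw [Finset.sum_const, nsmul_one, ZMod.natCast_eq_zero_iff_even] at h1
    exact h1
  rw [Finset.card_erase_of_mem (Finset.mem_filter.mpr ⟨hx, H.alt x⟩), H.reg x hx,
    Nat.even_sub (by have := H.four; omega)] at hev
  exact absurd (hev.mp H.even) (by simp)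

end H51.FStep
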