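import Cfsg.Agent.H51.FStep.Rows
import Cfsg.Agent.H51.FStep.Faithful
import Cfsg.Agent.H92.OrthThreeTransp
import Cfsg.Agent.H44.StandardBasis

/-!
Fischer step `Sp(2m,2) → O(2m+2,2)` (M3 of the campaign for S5369).
-/

set_option autoImplicit false
set_option linter.all false

namespace H51.FStep

open Cfsg H99 H7.TT

universe u w

variable {G : Type u} [Group G] [Finite G] {W : Type w} [AddCommGroup W] [Module (ZMod 2) W]
  [Fintype W] [DecidableEq W]
variable {D : Set G} {d : G} {B : W →ₗ[ZMod 2] W →ₗ[ZMod 2] ZMod 2} {pt : W → G} {m : ℕ}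

theorem z2_sum_self (i : ZMod 2) : i + i = 0 := CharTwo.add_self_eq_zero i

theorem smul_z2 {M : Type*} [AddCommGroup M] [Module (ZMod 2) M] (f : W → M) (h0 : f 0 = 0)
    (c : ZMod 2) (s : W) : f (c • s) = c • f s := by
  rcases z2c c with rfl | rfl
  · rw [zero_smul, zero_smul, h0]
  · rw [one_smul, one_smul]

/-- The orthogonal space is carried by `W × F₂ × F₂`. -/
abbrev Ext (W : Type w) : Type w := W × ZMod 2 × ZMod 2

variable (S : SpLink D d B pt m) {c₀ : G} (hc₀ : c₀ ∈ D) (hdc : ¬ Commute d c₀)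
include S hc₀ hdc

open Classical in
/-- The row of the lift of a vector. -/
noncomputable def liftRow (_S : SpLink D d B pt m) (_hc₀ : c₀ ∈ D) (_hdc : ¬ Commute d c₀) (s : W) :
    D → ZMod 2 :=
  if s = 0 then 0 else row D (pt s) + (1 + ind (_S.link c₀) s) • row D d

theorem liftRow_zero : liftRow S hc₀ hdc 0 = 0 := if_pos rfl

theorem liftRow_of_ne {s : W} (hs : s ≠ 0) :
    liftRow S hc₀ hdc s = row D (pt s) + (1 + ind (S.link c₀) s) • row D d := if_neg hs

theorem liftRow_add (s t : W) :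
    liftRow S hc₀ hdc (s + t) = liftRow S hc₀ hdc s + liftRow S hc₀ hdc t := by
  by_cases hs : s = 0
  · subst hs; rw [zero_add, liftRow_zero, zero_add]
  by_cases ht : t = 0
  · subst ht; rw [add_zero, liftRow_zero, add_zero]
  by_cases hst : s = t
  · subst hst; rw [w2, liftRow_zero, w2]
  have hst' : s + t ≠ 0 := w2_ne hst
  rw [liftRow_of_ne S hc₀ hdc hst', liftRow_of_ne S hc₀ hdc hs, liftRow_of_ne S hc₀ hdc ht,
    (S.linkSet hc₀ hdc).quadratic]
  rcases z2c (B s t) with h | h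
  · have h3 := S.row_triple hs ht hst h
    funext z
    have h3z := congrFun h3 z
    simp only [Pi.add_apply, Pi.smul_apply, smul_eq_mul, h] at h3z ⊢
    rw [← h3z]
    generalize row D (pt s) z = a, row D (pt t) z = b, row D (pt (s + t)) z = e,
      ind (S.link c₀) s = i, ind (S.link c₀) t = j
    revert a b e i j; decide
  · obtain ⟨hs', ht', -⟩ := S.ne_of_one h
    rw [S.sum s t h, S.row_cj (S.ptD hs') (S.ptD ht') (S.not_commute h)]
    funext z
    simp only [Pi.add_apply, Pi.smul_apply, smul_eq_mul, h]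
    generalize row D (pt s) z = a, row D (pt t) z = b, row D d z = e,
      ind (S.link c₀) s = i, ind (S.link c₀) t = j
    revert a b e i j; decide

/-- The linear map to the rows. -/
noncomputable def toRows : Ext W →ₗ[ZMod 2] (D → ZMod 2) :=
  LinearMap.coprod
    { toFun := liftRow S hc₀ hdc
      map_add' := liftRow_add S hc₀ hdc
      map_smul' := fun c s => smul_z2 _ (liftRow_zero S hc₀ hdc) c s }
    (LinearMap.coprod (LinearMap.toSpanSingleton (ZMod 2) _ (row D d))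
      (LinearMap.toSpanSingleton (ZMod 2) _ (row D c₀)))

theorem toRows_apply (p : Ext W) :
    toRows S hc₀ hdc p = liftRow S hc₀ hdc p.1 + (p.2.1 • row D d + p.2.2 • row D c₀) := rfl

theorem liftRow_at_d (s : W) : liftRow S hc₀ hdc s ⟨d, S.hd⟩ = 0 := by
  by_cases hs : s = 0
  · rw [hs, liftRow_zero]; rfl
  · rw [liftRow_of_ne S hc₀ hdc hs, Pi.add_apply, Pi.smul_apply,
      row_of_commute (x := pt s) (z := ⟨d, S.hd⟩) (S.mem s hs).2.2.symm,
      row_of_commute (x := d) (z := ⟨d, S.hd⟩) (Commute.refl d), smul_zero, add_zero]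

theorem liftRow_at_c (s : W) : liftRow S hc₀ hdc s ⟨c₀, hc₀⟩ = 0 := by
  by_cases hs : s = 0
  · rw [hs, liftRow_zero]; rfl
  · rw [liftRow_of_ne S hc₀ hdc hs, Pi.add_apply, Pi.smul_apply,
      S.row_pt_out (c := ⟨c₀, hc₀⟩) hdc hs, row_of_not (x := d) (z := ⟨c₀, hc₀⟩) hdc, smul_eq_mul,
      mul_one]
    exact z2_sum_self _

theorem liftRow_at_pt (s : W) {t : W} (ht : t ≠ 0) :
    liftRow S hc₀ hdc s ⟨pt t, S.ptD ht⟩ = B s t := by
  by_cases hs : s = 0
  · rw [hs, liftRow_zero, map_zero]; rfl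
  · rw [liftRow_of_ne S hc₀ hdc hs, Pi.add_apply, Pi.smul_apply, S.row_pt_in hs ht _ rfl,
      row_of_commute (x := d) (z := ⟨pt t, S.ptD ht⟩) (S.mem t ht).2.2, smul_zero, add_zero]

theorem toRows_at_d (p : Ext W) : toRows S hc₀ hdc p ⟨d, S.hd⟩ = p.2.2 := by
  rw [toRows_apply]
  simp only [Pi.add_apply, Pi.smul_apply, liftRow_at_d S hc₀ hdc, smul_eq_mul,
    row_of_commute (x := d) (z := ⟨d, S.hd⟩) (Commute.refl d),
    row_of_not (x := c₀) (z := ⟨d, S.hd⟩) fun e => hdc e.symm, mul_zero, mul_one, zero_add]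

theorem toRows_at_c (p : Ext W) : toRows S hc₀ hdc p ⟨c₀, hc₀⟩ = p.2.1 := by
  rw [toRows_apply]
  simp only [Pi.add_apply, Pi.smul_apply, liftRow_at_c S hc₀ hdc, smul_eq_mul,
    row_of_commute (x := c₀) (z := ⟨c₀, hc₀⟩) (Commute.refl c₀),
    row_of_not (x := d) (z := ⟨c₀, hc₀⟩) hdc, mul_zero, mul_one, zero_add, add_zero]

theorem toRows_at_pt (p : Ext W) {t : W} (ht : t ≠ 0) :
    toRows S hc₀ hdc p ⟨pt t, S.ptD ht⟩ = B p.1 t + p.2.2 * (1 + ind (S.link c₀) t) := by
  rw [toRows_apply]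
  simp only [Pi.add_apply, Pi.smul_apply, liftRow_at_pt S hc₀ hdc _ ht, smul_eq_mul,
    row_of_commute (x := d) (z := ⟨pt t, S.ptD ht⟩) (S.mem t ht).2.2, mul_zero, zero_add]
  rw [row_symm ⟨c₀, hc₀⟩ ⟨pt t, S.ptD ht⟩, S.row_pt_out (c := ⟨c₀, hc₀⟩) hdc ht]

theorem toRows_inj : Function.Injective (toRows S hc₀ hdc) := by
  rw [injective_iff_map_eq_zero]
  intro p hp
  have h1 : p.2.2 = 0 := by rw [← toRows_at_d S hc₀ hdc, hp]; rfl
  have h2 : p.2.1 = 0 := by rw [← toRows_at_c S hc₀ hdc, hp]; rfl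
  have h3 : p.1 = 0 := by
    by_contra h
    obtain ⟨y, hy⟩ := S.nd _ h
    have := toRows_at_pt S hc₀ hdc p (S.ne_of_one hy).2.1
    rw [hp, h1, zero_mul, add_zero, hy] at this
    exact zero_ne_one this
  exact Prod.ext h3 (Prod.ext h2 h1)

theorem generated : Subgroup.closure ({x | x = d ∨ x = c₀} ∪ perp D d) = ⊤ := by
  classical
  set M := Subgroup.closure ({x | x = d ∨ x = c₀} ∪ perp D d) with hM
  -- the subgroup contains the centraliser of `d`
  have hcl : ∀ x ∈ perpIns D d, x ∈ M := fun x hx => by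
    by_cases h : x = d
    · exact Subgroup.subset_closure (Or.inl (Or.inl h))
    · exact Subgroup.subset_closure (Or.inr ⟨hx.1, h, hx.2⟩)
  let T : Set G := {g | g ∈ D ∧ g ∈ M}
  have hstep : ∀ x ∈ D, ∀ g, Commute g d → x ∈ perpIns D d → g * x * g⁻¹ ∈ perpIns D d := fun x hx g hg hxd =>
    ⟨S.conj g hx, by
      have := (conj_commute_iff g d x).2 hxd.2
      rwa [hg.eq, mul_inv_cancel_right] at this⟩
  have hall : ∀ x ∈ D, x ∈ M := by
    intro x hx
    by_cases hdx : Commute d x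
    · exact hcl x ⟨hx, hdx⟩
    · obtain ⟨k, hk, hkx⟩ := trans_on_noncommuting S.cls S.prim S.width S.hd hc₀ hdc hx hdx
      have hkM : k ∈ M := (Subgroup.closure_le M).mpr hcl hk
      rw [← hkx]
      exact mul_mem (mul_mem hkM (Subgroup.subset_closure (Or.inl (Or.inr rfl)))) (inv_mem hkM)
  rw [eq_top_iff, ← S.cls.2.2]
  exact (Subgroup.closure_le M).mpr hall

/-- A subset closed under conjugation by the generators is everything. -/
theorem all_of_invariant (P : G → Prop) (hd' : P d) (hc' : P c₀) (hE : ∀ x ∈ perp D d, P x)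
    (hstep : ∀ a ∈ D, P a → ∀ x ∈ D, P x → P (cj a x)) : ∀ x ∈ D, P x := by
  have C := S.closed
  have hgen : ∀ a ∈ ({x | x = d ∨ x = c₀} ∪ perp D d : Set G), a ∈ D ∧ P a := by
    rintro a ((rfl | rfl) | h)
    · exact ⟨S.hd, hd'⟩
    · exact ⟨hc₀, hc'⟩
    · exact ⟨h.1, hE a h⟩
  intro x hx
  obtain ⟨g, rfl⟩ := class_isConj S.cls S.hd hx
  have hg : g ∈ Subgroup.closure ({x | x = d ∨ x = c₀} ∪ perp D d) := by
    rw [generated S hc₀ hdc]; trivial
  have key : ∀ y ∈ D, P y → P (g * y * g⁻¹) := by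
    clear hx
    induction hg using Subgroup.closure_induction with
    | mem a ha =>
      intro y hy hPy
      rw [← C.cj_eq (hgen a ha).1]
      exact hstep a (hgen a ha).1 (hgen a ha).2 y hy hPy
    | one => intro y hy hPy; simpa using hPy
    | mul a b _ _ iha ihb =>
      intro y hy hPy
      rw [show a * b * y * (a * b)⁻¹ = a * (b * y * b⁻¹) * a⁻¹ by group]
      exact iha _ (S.conj b hy) (ihb y hy hPy)
    | inv a _ iha =>
      intro y hy hPy
      have hp : ∀ k : ℕ, P (a ^ k * y * (a ^ k)⁻¹) := by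
        intro k
        induction k with
        | zero => simpa using hPy
        | succ k ihk =>
          rw [show a ^ (k + 1) * y * (a ^ (k + 1))⁻¹ = a * (a ^ k * y * (a ^ k)⁻¹) * a⁻¹ by
            rw [pow_succ']; group]
          exact iha _ (S.conj _ hy) ihk
      have h1 : a⁻¹ = a ^ (orderOf a - 1) := inv_eq_of_mul_eq_one_right (by
        rw [← pow_succ', Nat.sub_add_cancel (orderOf_pos a), pow_orderOf_eq_one])
      rw [h1]
      exact hp _
  exact key d S.hd hd'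

theorem row_mem_range : ∀ x ∈ D, ∃ p, toRows S hc₀ hdc p = row D x := by
  refine all_of_invariant S hc₀ hdc (fun x => ∃ p, toRows S hc₀ hdc p = row D x) ⟨(0, 1, 0), ?_⟩ ⟨(0, 0, 1), ?_⟩ ?_ ?_
  · rw [toRows_apply, liftRow_zero]; simp
  · rw [toRows_apply, liftRow_zero]; simp
  · intro x hx
    obtain ⟨s, hs, rfl⟩ := S.surj x hx
    refine ⟨(s, 1 + ind (S.link c₀) s, 0), ?_⟩
    rw [toRows_apply, liftRow_of_ne S hc₀ hdc hs]
    simp only [zero_smul, add_zero]
    rw [add_assoc, w2, add_zero]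
  · rintro a ha ⟨p, hp⟩ x hx ⟨q, hq⟩
    by_cases h : Commute a x
    · exact ⟨q, by rw [hq, S.closed.fix ha h]⟩
    · exact ⟨p + q, by rw [map_add, hp, hq, S.row_cj ha hx h]⟩

open Classical in
/-- The vector of a member of `D`. -/
noncomputable def vec (x : G) : Ext W :=
  if h : x ∈ D then (row_mem_range S hc₀ hdc x h).choose else 0

theorem toRows_vec {x : G} (hx : x ∈ D) : toRows S hc₀ hdc (vec S hc₀ hdc x) = row D x := by
  rw [vec, dif_pos hx]; exact (row_mem_range S hc₀ hdc x hx).choose_spec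

theorem vec_cj {a x : G} (ha : a ∈ D) (hx : x ∈ D) (h : ¬ Commute a x) :
    vec S hc₀ hdc (cj a x) = vec S hc₀ hdc a + vec S hc₀ hdc x := by
  apply toRows_inj S hc₀ hdc
  rw [map_add, toRows_vec S hc₀ hdc (S.closed.cj_mem ha hx), toRows_vec S hc₀ hdc ha,
    toRows_vec S hc₀ hdc hx, S.row_cj ha hx h]

/-- The quadratic form. -/
noncomputable def qExt : QuadraticForm (ZMod 2) (Ext W) where
  toFun p := ind (S.link c₀) p.1 + p.2.1 + p.2.2 + p.2.1 * p.2.2
  toFun_smul c p := by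
    rcases z2c c with rfl | rfl
    · simp [ind, SpLink.link]
    · simp
  exists_companion' := by
    refine ⟨(B.compl₁₂ (LinearMap.fst _ W _) (LinearMap.fst _ W _)) + LinearMap.mk₂ (ZMod 2)
      (fun (p q : Ext W) => p.2.1 * q.2.2 + p.2.2 * q.2.1) ?_ ?_ ?_ ?_, ?_⟩
    · intro a b q; simp only [Prod.snd_add, Prod.fst_add]; ring
    · intro c a q; simp only [Prod.smul_snd, Prod.smul_fst, smul_eq_mul]; ring
    · intro q a b; simp only [Prod.snd_add, Prod.fst_add]; ring
    · intro c q a; simp only [Prod.smul_snd, Prod.smul_fst, smul_eq_mul]; ring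
    intro p q
    simp only [Prod.fst_add, Prod.snd_add, LinearMap.add_apply, LinearMap.compl₁₂_apply,
      LinearMap.fst_apply, LinearMap.mk₂_apply]
    rw [(S.linkSet hc₀ hdc).quadratic]
    ring

theorem qExt_apply (p : Ext W) :
    qExt S hc₀ hdc p = ind (S.link c₀) p.1 + p.2.1 + p.2.2 + p.2.1 * p.2.2 := rfl

theorem polB_qExt (p q : Ext W) : H43.polB (qExt S hc₀ hdc) p q =
    B p.1 q.1 + (p.2.1 * q.2.2 + p.2.2 * q.2.1) := by
  rw [H43.polB_apply, QuadraticMap.polar, qExt_apply, qExt_apply, qExt_apply]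
  simp only [Prod.fst_add, Prod.snd_add]
  rw [(S.linkSet hc₀ hdc).quadratic]
  ring

theorem row_eq_polB {x y : G} (hx : x ∈ D) (hy : y ∈ D) :
    row D x ⟨y, hy⟩ = H43.polB (qExt S hc₀ hdc) (vec S hc₀ hdc x) (vec S hc₀ hdc y) := by
  have hy' := toRows_vec S hc₀ hdc hy
  set q := vec S hc₀ hdc y
  set p := vec S hc₀ hdc x
  have e1 : row D d ⟨y, hy⟩ = q.2.2 := by
    rw [row_symm ⟨d, S.hd⟩ ⟨y, hy⟩, ← hy', toRows_at_d]
  have e2 : row D c₀ ⟨y, hy⟩ = q.2.1 := by
    rw [row_symm ⟨c₀, hc₀⟩ ⟨y, hy⟩, ← hy', toRows_at_c]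
  have e3 : liftRow S hc₀ hdc p.1 ⟨y, hy⟩ = B p.1 q.1 := by
    by_cases hs : p.1 = 0
    · rw [hs, liftRow_zero, map_zero]; rfl
    · rw [liftRow_of_ne S hc₀ hdc hs, Pi.add_apply, Pi.smul_apply, e1,
        row_symm ⟨pt p.1, S.ptD hs⟩ ⟨y, hy⟩, ← hy', toRows_at_pt S hc₀ hdc q hs, S.bsymm, smul_eq_mul]
      generalize B p.1 q.1 = a, q.2.2 = b, ind (S.link c₀) p.1 = i
      revert a b i; decide
  rw [← toRows_vec S hc₀ hdc hx, toRows_apply, polB_qExt]
  simp only [Pi.add_apply, Pi.smul_apply, e1, e2, smul_eq_mul]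
  exact congrArg (· + _) e3

theorem vec_inj {x y : G} (hx : x ∈ D) (hy : y ∈ D) (h : vec S hc₀ hdc x = vec S hc₀ hdc y) :
    x = y :=
  S.row_inj hx hy (by rw [← toRows_vec S hc₀ hdc hx, h, toRows_vec S hc₀ hdc hy])

theorem vec_d : vec S hc₀ hdc d = (0, 1, 0) := toRows_inj S hc₀ hdc (by
  rw [toRows_vec S hc₀ hdc S.hd, toRows_apply, liftRow_zero]; simp)

theorem vec_c : vec S hc₀ hdc c₀ = (0, 0, 1) := toRows_inj S hc₀ hdc (by
  rw [toRows_vec S hc₀ hdc hc₀, toRows_apply, liftRow_zero]; simp)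

theorem vec_pt {s : W} (hs : s ≠ 0) : vec S hc₀ hdc (pt s) = (s, 1 + ind (S.link c₀) s, 0) :=
  toRows_inj S hc₀ hdc (by
    rw [toRows_vec S hc₀ hdc (S.ptD hs), toRows_apply, liftRow_of_ne S hc₀ hdc hs]
    simp only [zero_smul, add_zero]
    rw [add_assoc, w2, add_zero])

theorem qExt_vec : ∀ x ∈ D, qExt S hc₀ hdc (vec S hc₀ hdc x) = 1 := by
  have hi0 : ind (S.link c₀) (0 : W) = 0 := if_neg fun h => (S.mem_link.mp h).1 rfl
  refine all_of_invariant S hc₀ hdc (fun x => qExt S hc₀ hdc (vec S hc₀ hdc x) = 1) ?_ ?_ ?_ ?_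
  · rw [vec_d, qExt_apply]; simp [hi0]
  · rw [vec_c, qExt_apply]; simp [hi0]
  · intro x hx
    obtain ⟨s, hs, rfl⟩ := S.surj x hx
    rw [vec_pt S hc₀ hdc hs, qExt_apply]
    show ind (S.link c₀) s + (1 + ind (S.link c₀) s) + 0 + (1 + ind (S.link c₀) s) * 0 = 1
    generalize ind (S.link c₀) s = i
    revert i; decide
  · intro a ha hqa x hx hqx
    by_cases h : Commute a x
    · rwa [S.closed.fix ha h]
    · rw [vec_cj S hc₀ hdc ha hx h, QuadraticMap.map_add (⇑(qExt S hc₀ hdc)), hqa, hqx,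
        ← H43.polB_apply, ← row_eq_polB S hc₀ hdc ha hx, row_of_not h]
      decide

theorem vec_surj {p : Ext W} (hp : qExt S hc₀ hdc p = 1) : ∃ x ∈ D, vec S hc₀ hdc x = p := by
  have hi0 : ind (S.link c₀) (0 : W) = 0 := if_neg fun h => (S.mem_link.mp h).1 rfl
  obtain ⟨s, α, β⟩ := p
  rw [qExt_apply] at hp
  simp only at hp
  have hd' : ¬ Commute d c₀ := hdc
  rcases z2c β with rfl | rfl
  · by_cases hs : s = 0
    · subst hs
      rw [hi0] at hp
      refine ⟨d, S.hd, ?_⟩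
      rw [vec_d]
      simp only [zero_add, add_zero, mul_zero] at hp
      rw [hp]
    · refine ⟨pt s, S.ptD hs, ?_⟩
      rw [vec_pt S hc₀ hdc hs]
      have : α = 1 + ind (S.link c₀) s := by
        revert hp; generalize ind (S.link c₀) s = i; revert α i; decide
      rw [this]
  · by_cases hs : s = 0
    · subst hs
      rcases z2c α with rfl | rfl
      · exact ⟨c₀, hc₀, vec_c S hc₀ hdc⟩
      · refine ⟨cj d c₀, S.closed.cj_mem S.hd hc₀, ?_⟩
        rw [vec_cj S hc₀ hdc S.hd hc₀ hdc, vec_d, vec_c]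
        simp
    · have hq : ind (S.link c₀) s = 0 := by
        revert hp; generalize ind (S.link c₀) s = i; revert α i; decide
      have hnc : ¬ Commute (pt s) c₀ := fun h => by
        have : s ∈ S.link c₀ := S.mem_link.mpr ⟨hs, h⟩
        simp [ind, this] at hq
      have h1 : vec S hc₀ hdc (cj (pt s) c₀) = (s, 1, 1) := by
        rw [vec_cj S hc₀ hdc (S.ptD hs) hc₀ hnc, vec_pt S hc₀ hdc hs, vec_c, hq]
        simp
      rcases z2c α with rfl | rfl
      · have hx1 : cj (pt s) c₀ ∈ D := S.closed.cj_mem (S.ptD hs) hc₀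
        have hnc' : ¬ Commute d (cj (pt s) c₀) := fun h => by
          have := row_eq_polB S hc₀ hdc S.hd hx1
          rw [row_of_commute (z := ⟨_, hx1⟩) h, vec_d, h1, polB_qExt] at this
          simp at this
        refine ⟨cj d (cj (pt s) c₀), S.closed.cj_mem S.hd hx1, ?_⟩
        rw [vec_cj S hc₀ hdc S.hd hx1 hnc', vec_d, h1]
        simp [z2_sum_self]
      · exact ⟨cj (pt s) c₀, S.closed.cj_mem (S.ptD hs) hc₀, h1⟩

end H51.FStep
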