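import Cfsg.Agent.H51.FStep.Link
import Cfsg.Agent.H7.TT.Symp

/-!
Fischer step `Sp(2m,2) → O(2m+2,2)`: rows of the non-commuting relation are additive on lines, and
the points outside the perp of `d` give quadrics (M3 of the campaign for S5369).
-/

set_option autoImplicit false
set_option linter.all false

namespace H51.FStep

open Cfsg H99 H7.TT

universe u w

variable {G : Type u} [Group G] [Finite G] {W : Type w} [AddCommGroup W] [Module (ZMod 2) W]
  [Fintype W]

/-- The perp of `d` is a symplectic space over two elements. -/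
structure SpLink (D : Set G) (d : G) (B : W →ₗ[ZMod 2] W →ₗ[ZMod 2] ZMod 2) (pt : W → G) (m : ℕ) :
    Prop where
  cls : IsThreeTranspositionClass D
  prim : IsPrimitiveUnderConj D
  center : Subgroup.center G = ⊥
  hd : d ∈ D
  hm : 2 ≤ m
  alt : ∀ x, B x x = 0
  nd : ∀ x, x ≠ 0 → ∃ y, B x y = 1
  card : Fintype.card W = 2 ^ (2 * m)
  mem : ∀ u, u ≠ 0 → pt u ∈ perp D d
  surj : ∀ x ∈ perp D d, ∃ u, u ≠ 0 ∧ pt u = x
  inj : ∀ u v, u ≠ 0 → v ≠ 0 → pt u = pt v → u = v
  comm : ∀ u v, u ≠ 0 → v ≠ 0 → (Commute (pt u) (pt v) ↔ B u v = 0)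
  sum : ∀ u v, B u v = 1 → pt (u + v) = cj (pt u) (pt v)

variable {D : Set G} {d : G} {B : W →ₗ[ZMod 2] W →ₗ[ZMod 2] ZMod 2} {pt : W → G} {m : ℕ}

theorem row_of_commute {x : G} {z : D} (h : Commute x (z : G)) : row D x z = 0 := row_eq_zero.mpr h

theorem row_of_not {x : G} {z : D} (h : ¬ Commute x (z : G)) : row D x z = 1 :=
  z2n _ fun e => h (row_eq_zero.mp e)

theorem row_symm (x y : D) : row D (x : G) y = row D (y : G) x := by
  by_cases h : Commute (x : G) (y : G)
  · rw [row_of_commute h, row_of_commute h.symm]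
  · rw [row_of_not h, row_of_not fun e => h e.symm]

variable (S : SpLink D d B pt m)
include S

theorem SpLink.closed : Closed D := Closed.of_class S.cls

theorem SpLink.conj (g : G) {x : G} (hx : x ∈ D) : g * x * g⁻¹ ∈ D := class_conj_mem S.cls g hx

theorem SpLink.ptD {u : W} (h : u ≠ 0) : pt u ∈ D := (S.mem u h).1

theorem SpLink.bsymm (x y : W) : B x y = B y x := by
  have h := S.alt (x + y)
  rw [map_add, map_add, LinearMap.add_apply, LinearMap.add_apply, S.alt, S.alt, zero_add, add_zero] at h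
  have e : ∀ i j : ZMod 2, j + i = 0 → i = j := by decide
  exact e _ _ h

theorem SpLink.ne_of_one {u v : W} (h : B u v = 1) : u ≠ 0 ∧ v ≠ 0 ∧ u + v ≠ 0 := by
  refine ⟨fun e => ?_, fun e => ?_, fun e => ?_⟩
  · rw [e, map_zero, LinearMap.zero_apply] at h; exact zero_ne_one h
  · rw [e, map_zero] at h; exact zero_ne_one h
  · have : v = u := by
      rw [← add_zero u, ← e, ← add_assoc, w2, zero_add]
    rw [this, S.alt] at h; exact zero_ne_one h

theorem SpLink.not_commute {u v : W} (h : B u v = 1) : ¬ Commute (pt u) (pt v) := fun e => by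
  rw [(S.comm u v (S.ne_of_one h).1 (S.ne_of_one h).2.1).mp e] at h
  exact zero_ne_one h

theorem SpLink.card_four : 4 * 2 ^ (2 * m - 2) = 2 ^ (2 * m) := by
  have := S.hm
  rw [show 2 * m = 2 * m - 2 + 2 by omega, pow_add, Nat.add_sub_cancel]
  ring

theorem SpLink.exists_pair : ∃ u v, B u v = 1 := by
  have h1 : 1 < Fintype.card W := by
    rw [S.card]; exact Nat.one_lt_two_pow (by have := S.hm; omega)
  haveI := Fintype.one_lt_card_iff_nontrivial.mp h1
  obtain ⟨u, hu⟩ := exists_ne (0 : W)
  exact ⟨u, S.nd u hu⟩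

theorem SpLink.width : ∃ a ∈ D, ∃ b ∈ D, a ≠ b ∧ Commute a b := by
  obtain ⟨u, v, h⟩ := S.exists_pair
  have hu := S.mem u (S.ne_of_one h).1
  exact ⟨d, S.hd, _, hu.1, hu.2.1.symm, hu.2.2⟩

/-- A non-commuting pair moves into the perp of `d`. -/
theorem SpLink.norm_pair {a b : G} (ha : a ∈ D) (hb : b ∈ D) (hab : ¬ Commute a b) :
    ∃ (g : G) (u v : W), B u v = 1 ∧ g * a * g⁻¹ = pt u ∧ g * b * g⁻¹ = pt v := by
  obtain ⟨u, v, h⟩ := S.exists_pair
  have hu := S.ne_of_one h
  obtain ⟨g, hg⟩ := class_isConj S.cls ha (S.ptD hu.1)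
  have hgb : ¬ Commute (pt u) (g * b * g⁻¹) := fun e => hab (by
    rw [← hg] at e; exact (conj_commute_iff g a b).1 e)
  obtain ⟨k, hk, hkb⟩ := trans_on_noncommuting S.cls S.prim S.width (S.ptD hu.1) (S.conj g hb) hgb
    (S.ptD hu.2.1) (S.not_commute h)
  refine ⟨k * g, u, v, h, ?_, ?_⟩
  · rw [show k * g * a * (k * g)⁻¹ = k * (g * a * g⁻¹) * k⁻¹ by group, hg,
      (perpIns_commute hk).eq, mul_inv_cancel_right]
  · rw [show k * g * b * (k * g)⁻¹ = k * (g * b * g⁻¹) * k⁻¹ by group, hkb]

variable [DecidableEq W]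

open Classical in
/-- The points of the perp of `d` commuting with `c`. -/
noncomputable def SpLink.link (_S : SpLink D d B pt m) (c : G) : Finset W :=
  Finset.univ.filter fun u => u ≠ 0 ∧ Commute (pt u) c

theorem SpLink.mem_link {c : G} {u : W} : u ∈ S.link c ↔ u ≠ 0 ∧ Commute (pt u) c := by
  simp [SpLink.link]

theorem SpLink.count_two {a b : W} (hab : B a b = 1) :
    (Finset.univ.filter fun t : W => B a t = 0 ∧ B b t = 0).card = 2 ^ (2 * m - 2) := by
  set F := Finset.univ.filter fun t : W => B a t = 0 ∧ B b t = 0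
  have hba : B b a = 1 := by rw [S.bsymm]; exact hab
  have hval : ∀ (i j : ZMod 2) (t : W), B a (t + (i • b + j • a)) = B a t + i ∧
      B b (t + (i • b + j • a)) = B b t + j := fun i j t => by
    constructor <;> simp only [map_add, map_smul, smul_eq_mul, S.alt, hab, hba] <;> ring
  have hc : Fintype.card W = F.card * 4 := by
    rw [← Finset.card_univ, show (4 : ℕ) = (Finset.univ : Finset (ZMod 2 × ZMod 2)).card from rfl,
      ← Finset.card_product]
    refine Finset.card_bij' (fun t _ => (t + (B a t • b + B b t • a), (B a t, B b t)))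
      (fun p _ => p.1 + (p.2.1 • b + p.2.2 • a)) (fun t _ => ?_) (fun _ _ => Finset.mem_univ _)
      (fun t _ => ?_) (fun p hp => ?_)
    · obtain ⟨e1, e2⟩ := hval (B a t) (B b t) t
      simp [F, e1, e2, CharTwo.add_self_eq_zero]
    · show t + (B a t • b + B b t • a) + (B a t • b + B b t • a) = t
      rw [add_assoc, w2, add_zero]
    · obtain ⟨hp, -⟩ := Finset.mem_product.mp hp
      simp only [F, Finset.mem_filter, Finset.mem_univ, true_and] at hp
      obtain ⟨e1, e2⟩ := hval p.2.1 p.2.2 p.1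
      rw [hp.1, zero_add] at e1
      rw [hp.2, zero_add] at e2
      refine Prod.ext ?_ (Prod.ext e1 e2)
      show p.1 + (p.2.1 • b + p.2.2 • a) + (B a _ • b + B b _ • a) = p.1
      rw [e1, e2, add_assoc, w2, add_zero]
  rw [S.card, ← S.card_four] at hc
  omega

theorem SpLink.linkSet {c : G} (hc : c ∈ D) (hdc : ¬ Commute d c) :
    LinkSet B (S.link c) (2 ^ (2 * m - 2)) where
  alt := S.alt
  nd := S.nd
  card := by rw [S.card, S.card_four]
  four := by
    refine le_trans (by norm_num : 4 ≤ 2 ^ 2) (Nat.pow_le_pow_right (by norm_num) ?_)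
    have := S.hm; omega
  even := (Nat.even_pow).mpr ⟨even_two, by have := S.hm; omega⟩
  zero := fun h => (S.mem_link.mp h).1 rfl
  ne := by
    obtain ⟨g, u, v, h, hg1, hg2⟩ := S.norm_pair S.hd hc hdc
    obtain ⟨hu, hv, -⟩ := S.ne_of_one h
    obtain ⟨-, -, hdu⟩ := S.mem u hu
    obtain ⟨-, -, hdv⟩ := S.mem v hv
    have h1 : Commute (g⁻¹ * d * g) d := by
      rw [← conj_commute_iff g, hg1]
      simpa [mul_assoc] using hdu
    have h2 : Commute (g⁻¹ * d * g) c := by
      rw [← conj_commute_iff g, hg2]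
      simpa [mul_assoc] using hdv
    have hmem : g⁻¹ * d * g ∈ perp D d :=
      ⟨by simpa using S.conj g⁻¹ S.hd, fun e => hdc (e ▸ h2), h1.symm⟩
    obtain ⟨w, hw, hwe⟩ := S.surj _ hmem
    exact ⟨w, S.mem_link.mpr ⟨hw, hwe.symm ▸ h2⟩⟩
  closed := by
    intro x hx y hy h
    obtain ⟨-, hxc⟩ := S.mem_link.mp hx
    obtain ⟨-, hyc⟩ := S.mem_link.mp hy
    refine S.mem_link.mpr ⟨(S.ne_of_one h).2.2, ?_⟩
    rw [S.sum x y h, cj]
    exact (hxc.mul_left hyc).mul_left hxc
  reg := by
    intro s hs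
    classical
    obtain ⟨hs0, hsc⟩ := S.mem_link.mp hs
    obtain ⟨hsD, hsd, hds⟩ := S.mem s hs0
    obtain ⟨g, hg⟩ := class_isConj S.cls hsD S.hd
    have hgd : g * d * g⁻¹ ∈ perp D d := by
      refine ⟨S.conj g S.hd, fun e => hsd ?_, ?_⟩
      · have h : g * d * g⁻¹ = g * pt s * g⁻¹ := e.trans hg.symm
        exact (mul_left_cancel (mul_right_cancel h)).symm
      · have := (conj_commute_iff g (pt s) d).2 hds.symm
        rwa [hg] at this
    have hgc : g * c * g⁻¹ ∈ perp D d := by
      refine ⟨S.conj g hc, fun e => hdc ?_, ?_⟩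
      · have h : g * c * g⁻¹ = g * pt s * g⁻¹ := e.trans hg.symm
        rw [mul_left_cancel (mul_right_cancel h)]
        exact hds
      · have := (conj_commute_iff g (pt s) c).2 hsc
        rwa [hg] at this
    obtain ⟨a, ha, hae⟩ := S.surj _ hgd
    obtain ⟨b, hb, hbe⟩ := S.surj _ hgc
    have hab : B a b = 1 := z2n _ fun e => hdc (by
      have := (S.comm a b ha hb).mpr e
      rw [hae, hbe] at this
      exact (conj_commute_iff g d c).1 this)
    rw [← S.count_two hab]
    set T1 := ((S.link c).filter fun t => B s t = 0).erase s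
    set T2 := (Finset.univ.filter fun t : W => B a t = 0 ∧ B b t = 0).erase 0
    have h12 : T1.card = T2.card := by
      have hT : (fun t => g * pt t * g⁻¹) '' (T1 : Set W) = pt '' (T2 : Set W) := by
        ext x
        constructor
        · rintro ⟨t, ht, rfl⟩
          simp only [T1, Finset.coe_erase, Finset.coe_filter, Set.mem_diff, Set.mem_ofPred_eq,
            Set.mem_singleton_iff, S.mem_link] at ht
          obtain ⟨⟨⟨ht0, htc⟩, hBt⟩, hts⟩ := ht
          obtain ⟨htD, htd, hdt⟩ := S.mem t ht0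
          have hne : g * pt t * g⁻¹ ≠ d := fun e => hts (S.inj t s ht0 hs0
            (mul_left_cancel (mul_right_cancel (e.trans hg.symm))))
          have hcd : Commute d (g * pt t * g⁻¹) := by
            have := (conj_commute_iff g (pt s) (pt t)).2 ((S.comm s t hs0 ht0).mpr hBt)
            rwa [hg] at this
          obtain ⟨u, hu, hue⟩ := S.surj _ ⟨S.conj g htD, hne, hcd⟩
          refine ⟨u, ?_, hue⟩
          simp only [T2, Finset.coe_erase, Finset.coe_filter, Set.mem_diff, Set.mem_ofPred_eq,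
            Set.mem_singleton_iff, Finset.mem_univ, true_and]
          refine ⟨⟨(S.comm a u ha hu).mp ?_, (S.comm b u hb hu).mp ?_⟩, hu⟩
          · rw [hae, hue]; exact (conj_commute_iff g d (pt t)).2 hdt
          · rw [hbe, hue]; exact (conj_commute_iff g c (pt t)).2 htc.symm
        · rintro ⟨u, hu, rfl⟩
          simp only [T2, Finset.coe_erase, Finset.coe_filter, Set.mem_diff, Set.mem_ofPred_eq,
            Set.mem_singleton_iff, Finset.mem_univ, true_and] at hu
          obtain ⟨⟨hau, hbu⟩, hu0⟩ := hu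
          obtain ⟨huD, hud, hdu⟩ := S.mem u hu0
          have hx : pt u = g * (g⁻¹ * pt u * g) * g⁻¹ := by group
          have h1 : Commute d (g⁻¹ * pt u * g) := by
            rw [← conj_commute_iff g, ← hx, ← hae]; exact (S.comm a u ha hu0).mpr hau
          have h2 : Commute c (g⁻¹ * pt u * g) := by
            rw [← conj_commute_iff g, ← hx, ← hbe]; exact (S.comm b u hb hu0).mpr hbu
          have hmem : g⁻¹ * pt u * g ∈ perp D d :=
            ⟨by simpa using S.conj g⁻¹ huD, fun e => hdc (by rw [e] at h2; exact h2.symm), h1⟩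
          obtain ⟨t, ht, hte⟩ := S.surj _ hmem
          refine ⟨t, ?_, by show g * pt t * g⁻¹ = pt u; rw [hte, ← hx]⟩
          simp only [T1, Finset.coe_erase, Finset.coe_filter, Set.mem_diff, Set.mem_ofPred_eq,
            Set.mem_singleton_iff, S.mem_link]
          refine ⟨⟨⟨ht, by rw [hte]; exact h2.symm⟩, (S.comm s t hs0 ht).mp ?_⟩, fun e => hud ?_⟩
          · rw [hte, ← conj_commute_iff g, ← hx, hg]; exact hdu
          · rw [hx, ← hte, e, hg]
      have e1 : ((fun t => g * pt t * g⁻¹) '' (T1 : Set W)).ncard = T1.card := by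
        rw [Set.ncard_image_of_injOn, Set.ncard_coe_finset]
        intro x hx y hy hxy
        simp only [T1, Finset.coe_erase, Finset.coe_filter, Set.mem_diff, Set.mem_ofPred_eq,
          S.mem_link] at hx hy
        exact S.inj x y hx.1.1.1 hy.1.1.1 (mul_left_cancel (mul_right_cancel hxy))
      have e2 : (pt '' (T2 : Set W)).ncard = T2.card := by
        rw [Set.ncard_image_of_injOn, Set.ncard_coe_finset]
        intro x hx y hy hxy
        simp only [T2, Finset.coe_erase, Finset.coe_filter, Set.mem_diff, Set.mem_ofPred_eq,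
          Set.mem_singleton_iff] at hx hy
        exact S.inj x y hx.2 hy.2 hxy
      rw [← e1, hT, e2]
    have hmem1 : s ∈ (S.link c).filter fun t => B s t = 0 := Finset.mem_filter.mpr ⟨hs, S.alt s⟩
    have hmem2 : (0 : W) ∈ Finset.univ.filter fun t : W => B a t = 0 ∧ B b t = 0 := by simp
    rw [← Finset.card_erase_add_one hmem1, ← Finset.card_erase_add_one hmem2]
    exact congrArg (· + 1) h12

/-- The row of a point of the perp, outside the perp. -/
theorem SpLink.row_pt_out {c : D} (hdc : ¬ Commute d (c : G)) {u : W} (hu : u ≠ 0) :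
    row D (pt u) c = 1 + ind (S.link c) u := by
  by_cases h : Commute (pt u) (c : G)
  · rw [row_of_commute h, show ind (S.link c) u = 1 from if_pos (S.mem_link.mpr ⟨hu, h⟩)]
    rfl
  · rw [row_of_not h, show ind (S.link c) u = 0 from if_neg fun e => h (S.mem_link.mp e).2]
    rfl

theorem SpLink.row_pt_in {u t : W} (hu : u ≠ 0) (ht : t ≠ 0) (z : D) (hz : (z : G) = pt t) :
    row D (pt u) z = B u t := by
  rcases z2c (B u t) with h | h
  · rw [h]; exact row_of_commute (hz ▸ (S.comm u t hu ht).mpr h)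
  · rw [h]; exact row_of_not (hz ▸ S.not_commute h)

theorem SpLink.cases_out (z : D) :
    (z : G) = d ∨ (∃ t, t ≠ 0 ∧ pt t = (z : G)) ∨ ¬ Commute d (z : G) := by
  by_cases h1 : (z : G) = d
  · exact Or.inl h1
  by_cases h2 : Commute d (z : G)
  · exact Or.inr (Or.inl (S.surj _ ⟨z.2, h1, h2⟩))
  · exact Or.inr (Or.inr h2)

/-- Rows are additive on lines. -/
theorem SpLink.row_cj {a b : G} (ha : a ∈ D) (hb : b ∈ D) (hab : ¬ Commute a b) :
    row D (cj a b) = row D a + row D b := by
  obtain ⟨g, u, v, h, hga, hgb⟩ := S.norm_pair ha hb hab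
  obtain ⟨hu, hv, huv⟩ := S.ne_of_one h
  funext z
  let z' : D := ⟨g * z * g⁻¹, S.conj g z.2⟩
  have htr : ∀ x, row D x z = row D (g * x * g⁻¹) z' := fun x => by
    by_cases hx : Commute x (z : G)
    · rw [row_of_commute hx, row_of_commute]; exact (conj_commute_iff g x z).2 hx
    · rw [row_of_not hx, row_of_not]; exact fun e => hx ((conj_commute_iff g x z).1 e)
  rw [Pi.add_apply, htr, htr a, htr b, hga, hgb,
    show g * cj a b * g⁻¹ = pt (u + v) by rw [S.sum u v h, ← hga, ← hgb, cj, cj]; group]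
  rcases S.cases_out z' with h1 | ⟨t, ht, h1⟩ | h1
  · have : ∀ w, w ≠ 0 → row D (pt w) z' = 0 := fun w hw =>
      row_of_commute (h1.symm ▸ (S.mem w hw).2.2.symm)
    rw [this _ huv, this _ hu, this _ hv, add_zero]
  · rw [S.row_pt_in huv ht z' h1.symm, S.row_pt_in hu ht z' h1.symm, S.row_pt_in hv ht z' h1.symm,
      map_add, LinearMap.add_apply]
  · rw [S.row_pt_out h1 huv, S.row_pt_out h1 hu, S.row_pt_out h1 hv, (S.linkSet z'.2 h1).line h]
    generalize ind (S.link z') u = i, ind (S.link z') v = j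
    revert i j; decide

/-- On a commuting line of the perp the rows add up to the row of `d`. -/
theorem SpLink.row_triple {u v : W} (hu : u ≠ 0) (hv : v ≠ 0) (hne : u ≠ v) (h : B u v = 0) :
    row D (pt u) + row D (pt v) + row D (pt (u + v)) = row D d := by
  have huv : u + v ≠ 0 := w2_ne hne
  funext z
  simp only [Pi.add_apply]
  rcases S.cases_out z with h1 | ⟨t, ht, h1⟩ | h1
  · have : ∀ w, w ≠ 0 → row D (pt w) z = 0 := fun w hw =>
      row_of_commute (h1.symm ▸ (S.mem w hw).2.2.symm)
    rw [this _ huv, this _ hu, this _ hv, add_zero, add_zero,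
      row_of_commute (x := d) (z := z) (h1.symm ▸ Commute.refl d)]
  · rw [S.row_pt_in huv ht z h1.symm, S.row_pt_in hu ht z h1.symm, S.row_pt_in hv ht z h1.symm,
      row_of_commute (x := d) (z := z) (h1 ▸ (S.mem t ht).2.2), map_add, LinearMap.add_apply,
      CharTwo.add_self_eq_zero]
  · rw [S.row_pt_out h1 huv, S.row_pt_out h1 hu, S.row_pt_out h1 hv, row_of_not (x := d) (z := z) h1,
      (S.linkSet z.2 h1).quadratic, h]
    generalize ind (S.link z) u = i, ind (S.link z) v = j
    revert i j; decide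

omit [DecidableEq W] in
theorem SpLink.row_inj {x a : G} (hx : x ∈ D) (ha : a ∈ D) (h : row D x = row D a) : x = a := by
  refine (prim_vRel_eq S.cls S.prim hx ha fun e he => ?_).symm
  rw [← row_eq_zero (z := ⟨e, he⟩), ← row_eq_zero (x := x) (z := ⟨e, he⟩), h]

end H51.FStep
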