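import Cfsg.Agent.H51.FStep.Step
import Cfsg.Agent.H71.Fischer.Defs
import Cfsg.Agent.S0440

/-!
The symplectic step in the form of the campaign (M3 for S5369).
-/

set_option autoImplicit false
set_option linter.all false

namespace H51.FStep

open Cfsg H99
open H5.TT.Fac (Down qD Desc im im_mem exists_of_mem im_inj im_commute)

universe u

theorem tv_inj {m : ℕ} {u v : Fin m ⊕ Fin m → ZMod 2} (hu : u ≠ 0)
    (h : H48.tv u (1 : ZMod 2) = H48.tv v 1) : u = v := by
  obtain ⟨z, hz⟩ := H48.exists_sf_ne hu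
  have h2 := congrArg (fun g : Matrix.symplecticGroup (Fin m) (ZMod 2) => g • z) h
  simp only [H48.tv_smul, one_mul, add_right_inj] at h2
  have hzu : H48.sf z u = 1 := z2n _ fun e => hz (H48.sf_eq_zero_comm e)
  rw [hzu, one_smul] at h2
  rcases z2c (H48.sf z v) with h3 | h3
  · rw [h3, zero_smul] at h2; exact absurd h2 hu
  · rwa [h3, one_smul] at h2

theorem tv_commute_iff {m : ℕ} {u v : Fin m ⊕ Fin m → ZMod 2} (hu : u ≠ 0) (hv : v ≠ 0) :
    Commute (H48.tv u (1 : ZMod 2)) (H48.tv v 1) ↔ H48.sf u v = 0 := by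
  constructor
  · intro h
    by_contra hne
    have h2 : H48.tv v (1 : ZMod 2) = H48.tv (H48.tv u (1 : ZMod 2) • v) 1 := by
      rw [← H48.tv_conj, h.eq, mul_inv_cancel_right]
    have h3 := tv_inj hv h2
    rw [H48.tv_smul, one_mul, left_eq_add, smul_eq_zero] at h3
    exact h3.elim (fun e => hne (H48.sf_eq_zero_comm e)) hu
  · intro h
    refine H48.sp_ext fun x => ?_
    simp only [mul_smul, H48.tv_smul, map_add, LinearMap.add_apply, map_smul, LinearMap.smul_apply,
      h, H48.sf_eq_zero_comm h, smul_eq_mul, mul_zero, one_mul, add_zero]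
    module

theorem sp_stmt : H71.Fischer.SpStmt.{u} := by
  intro G _ _ D d m hstep hm hcase
  classical
  obtain ⟨e, he⟩ := hcase
  have hdesc := hstep.desc
  have hpt : ∀ u : Fin m ⊕ Fin m → ZMod 2, ∃ x, u ≠ 0 →
      ∃ hx : x ∈ perp D d, e (im hx) = H48.tv u (1 : ZMod 2) := by
    intro u
    by_cases hu : u = 0
    · exact ⟨1, fun h => absurd hu h⟩
    · have hmem : H48.tv u (1 : ZMod 2) ∈ e '' qD D d := by
        rw [he, Set.mem_ofPred_eq, Cfsg.Agent.S0440.rank_one_iff]
        exact ⟨u, hu, rfl⟩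
      obtain ⟨z, hz, hzu⟩ := hmem
      obtain ⟨x, hx, rfl⟩ := exists_of_mem hz
      exact ⟨x, fun _ => ⟨hx, hzu⟩⟩
  choose pt hpt using hpt
  have hne : ∀ {u v : Fin m ⊕ Fin m → ZMod 2}, H48.sf u v = 1 → u ≠ 0 ∧ v ≠ 0 ∧ u + v ≠ 0 := by
    intro u v h
    refine ⟨fun e => ?_, fun e => ?_, fun e => ?_⟩
    · rw [e, map_zero, LinearMap.zero_apply] at h; exact zero_ne_one h
    · rw [e, map_zero] at h; exact zero_ne_one h
    · have : v = u := by rw [← add_zero u, ← e, ← add_assoc, w2, zero_add]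
      rw [this, H48.sf_self] at h; exact zero_ne_one h
  have C : H7.TT.Closed D := H7.TT.Closed.of_class hstep.cls
  have hcomm : ∀ u v, u ≠ 0 → v ≠ 0 → (Commute (pt u) (pt v) ↔ H48.sf u v = 0) := by
    intro u v hu hv
    obtain ⟨hx, hxe⟩ := hpt u hu
    obtain ⟨hy, hye⟩ := hpt v hv
    rw [← im_commute hdesc hx hy, ← tv_commute_iff hu hv, ← hxe, ← hye]
    exact ⟨fun h => h.map e.toMonoidHom, fun h => by
      simpa using h.map e.symm.toMonoidHom⟩
  have hS : SpLink D d (H48.sf : (Fin m ⊕ Fin m → ZMod 2) →ₗ[ZMod 2] _) pt m :=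
    { cls := hstep.cls
      prim := hstep.prim
      center := hstep.triv
      hd := hstep.mem
      hm := hm
      alt := H48.sf_self
      nd := fun x hx => (H48.exists_sf_ne hx).imp fun y hy => z2n _ hy
      card := by simp [two_mul]
      mem := fun u hu => (hpt u hu).1
      surj := fun x hx => by
        have hmem : e (im hx) ∈ e '' qD D d := ⟨_, im_mem hx, rfl⟩
        rw [he, Set.mem_ofPred_eq, Cfsg.Agent.S0440.rank_one_iff] at hmem
        obtain ⟨u, hu, hue⟩ := hmem
        obtain ⟨hy, hye⟩ := hpt u hu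
        exact ⟨u, hu, (im_inj hdesc hx hy (e.injective (hue.trans hye.symm))).symm⟩
      inj := fun u v hu hv h => by
        obtain ⟨hx, hxe⟩ := hpt u hu
        obtain ⟨hy, hye⟩ := hpt v hv
        refine tv_inj hu ?_
        rw [← hxe, ← hye]
        congr 2
      comm := hcomm
      sum := fun u v h => by
        obtain ⟨hu, hv, huv⟩ := hne h
        obtain ⟨hx, hxe⟩ := hpt u hu
        obtain ⟨hy, hye⟩ := hpt v hv
        obtain ⟨hz, hze⟩ := hpt _ huv
        have hxy : H7.TT.cj (pt u) (pt v) ∈ perp D d := by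
          refine ⟨C.cj_mem hx.1 hy.1, fun hcd => hy.2.1 ?_, ?_⟩
          · rw [C.cj_eq_iff hx.1] at hcd
            rw [hcd, C.fix hx.1 hx.2.2.symm]
          · rw [H7.TT.cj]
            exact (hx.2.2.mul_right hy.2.2).mul_right hx.2.2
        refine im_inj hdesc hz hxy (e.injective ?_)
        rw [hze]
        have hmul : im hxy = im hx * im hy * im hx := rfl
        rw [hmul, map_mul, map_mul, hxe, hye]
        refine H48.sp_ext fun z => ?_
        simp only [mul_smul, H48.tv_smul, map_add, LinearMap.add_apply, map_smul,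
          LinearMap.smul_apply, smul_eq_mul, H48.sf_self, h, H48.sf_swap u v, CharTwo.neg_eq]
        rcases z2c (H48.sf z u) with a | a <;> rcases z2c (H48.sf z v) with b | b <;>
          simp [a, b, z2_sum_self, add_assoc, w2, CharTwo.neg_eq] <;> abel_nf <;> simp [w2] }
  obtain ⟨Q, hQ, hfr, e', he'⟩ := hS.exists_orth
  rcases H44.equiv_plus_or_minus hfr Q (H44.polarSep_of_nondegenerate hQ) with
    ⟨φ, hφ⟩ | ⟨-, ζ, φ, hζ, hφ⟩
  · exact Or.inl (to_matrix_group Q (H43.qPlus (m + 1) (ZMod 2)) (H43.qPlus_nondeg _)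
      (H43.coe_qPlus (m + 1) (ZMod 2)) φ (fun x => (hφ x).symm) e' he')
  · obtain rfl : ζ = 1 := z2n ζ fun h0 => hζ 0 (by rw [h0]; simp)
    exact Or.inr (to_matrix_group Q (H43.qMinus m (ZMod 2) 1 1)
      (H43.qMinus_nondeg_of_disc _ (by decide)) (H43.coe_qMinus m (ZMod 2) 1 1) φ
      (fun x => (hφ x).symm) e' he')

end H51.FStep
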