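import Cfsg.Agent.H51.FStep.Orth

/-!
The Fischer step `Sp(2m,2) → O(2m+2,2)` in the form of S5369 (M3 of the campaign).
-/

set_option autoImplicit false
set_option linter.all false

namespace H51.FStep

open Cfsg H99 H7.TT
open scoped MatrixGroups

universe u v w

section Transport

variable {V : Type u} [AddCommGroup V] [Module (ZMod 2) V] {V' : Type v} [AddCommGroup V']
  [Module (ZMod 2) V']

/-- An isometry of spaces carries the orthogonal groups. -/
noncomputable def orthCongr (Q : QuadraticForm (ZMod 2) V) (Q' : QuadraticForm (ZMod 2) V')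
    (φ : V ≃ₗ[ZMod 2] V') (h : ∀ x, Q' (φ x) = Q x) : H43.orthGroup Q ≃* H43.orthGroup Q' where
  toFun g := ⟨(φ.symm.trans g.1).trans φ, fun x => by
    show Q' (φ (g.1 (φ.symm x))) = Q' x
    rw [h, g.2, ← h, φ.apply_symm_apply]⟩
  invFun g := ⟨(φ.trans g.1).trans φ.symm, fun x => by
    show Q (φ.symm (g.1 (φ x))) = Q x
    rw [← h, φ.apply_symm_apply, g.2, h]⟩
  left_inv g := H43.orth_ext fun x => by
    show φ.symm (φ (g.1 (φ.symm (φ x)))) = g.1 x
    rw [φ.symm_apply_apply, φ.symm_apply_apply]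
  right_inv g := H43.orth_ext fun x => by
    show φ (φ.symm (g.1 (φ (φ.symm x)))) = g.1 x
    rw [φ.apply_symm_apply, φ.apply_symm_apply]
  map_mul' g g' := H43.orth_ext fun x => by
    show φ (g.1 (g'.1 (φ.symm x))) = φ (g.1 (φ.symm (φ (g'.1 (φ.symm x)))))
    rw [φ.symm_apply_apply]

theorem orthCongr_refl (Q : QuadraticForm (ZMod 2) V) (Q' : QuadraticForm (ZMod 2) V')
    (φ : V ≃ₗ[ZMod 2] V') (h : ∀ x, Q' (φ x) = Q x) (v : V) :
    orthCongr Q Q' φ h (H43.refl Q v) = H43.refl Q' (φ v) := by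
  have hpol : ∀ x y, H43.polB Q' (φ x) (φ y) = H43.polB Q x y := fun x y => by
    rw [H43.polB_apply, H43.polB_apply, QuadraticMap.polar, QuadraticMap.polar, ← map_add, h, h, h]
  refine H43.orth_ext fun x => ?_
  obtain ⟨y, rfl⟩ := φ.surjective x
  show φ ((H43.refl Q v).1 (φ.symm (φ y))) = _
  rw [φ.symm_apply_apply, H43.refl_apply, H43.refl_apply, h, hpol, map_sub, map_smul]

theorem image_reflSet (Q : QuadraticForm (ZMod 2) V) (Q' : QuadraticForm (ZMod 2) V')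
    (φ : V ≃ₗ[ZMod 2] V') (h : ∀ x, Q' (φ x) = Q x) :
    (orthCongr Q Q' φ h) '' H43.reflSet Q = H43.reflSet Q' := by
  ext g
  constructor
  · rintro ⟨_, ⟨v, hv, rfl⟩, rfl⟩
    exact ⟨φ v, by rwa [h], orthCongr_refl Q Q' φ h v⟩
  · rintro ⟨v', hv', rfl⟩
    obtain ⟨v, rfl⟩ := φ.surjective v'
    exact ⟨_, ⟨v, by rwa [h] at hv', rfl⟩, orthCongr_refl Q Q' φ h v⟩

end Transport

/-- From the abstract orthogonal group to the matrix group of a given form. -/
theorem to_matrix_group {G : Type u} [Group G] {D : Set G} {V : Type v} [AddCommGroup V]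
    [Module (ZMod 2) V] (Q : QuadraticForm (ZMod 2) V) {ι : Type} [Fintype ι] [DecidableEq ι]
    (Q' : QuadraticForm (ZMod 2) (ι → ZMod 2)) (hQ' : (H43.polB Q').Nondegenerate)
    {f : (ι → ZMod 2) → ZMod 2} (hf : ⇑Q' = f) (φ : V ≃ₗ[ZMod 2] (ι → ZMod 2))
    (h : ∀ x, f (φ x) = Q x) (e : G ≃* H43.orthGroup Q) (he : e '' D = H43.reflSet Q) :
    ∃ e' : G ≃* ↥(Cfsg.isometryGroup (ZMod 2) f), e' '' D = {g : ↥(Cfsg.isometryGroup (ZMod 2) f) |
      (((g : GL ι (ZMod 2)) : Matrix ι ι (ZMod 2)) - 1).rank = 1} := by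
  subst hf
  refine ⟨(e.trans (orthCongr Q Q' φ h)).trans (H43.toOrth Q').symm, ?_⟩
  have hrank : ∀ g : ↥(Cfsg.isometryGroup (ZMod 2) ⇑Q'),
      (((g : GL ι (ZMod 2)) : Matrix ι ι (ZMod 2)) - 1).rank = 1 ↔
        H43.toOrth Q' g ∈ H43.reflSet Q' := fun g => by
    rw [H92.mem_reflSet_iff hQ', Matrix.rank]
    have hr : H43.resid (H43.toOrth Q' g) =
        LinearMap.range (((g : GL ι (ZMod 2)) : Matrix ι ι (ZMod 2)) - 1).mulVecLin := by
      apply le_antisymm <;> rintro _ ⟨x, rfl⟩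
      · exact ⟨-x, by rw [Matrix.mulVecLin_apply, Matrix.sub_mulVec, Matrix.one_mulVec,
          Matrix.mulVec_neg, H43.resMap_apply, H43.toOrth_apply]; abel⟩
      · exact ⟨-x, by rw [Matrix.mulVecLin_apply, Matrix.sub_mulVec, Matrix.one_mulVec,
          H43.resMap_apply, H43.toOrth_apply, Matrix.mulVec_neg]; abel⟩
    rw [hr]
  ext g
  rw [Set.mem_ofPred_eq, hrank, ← image_reflSet Q Q' φ h, ← he]
  constructor
  · rintro ⟨x, hx, rfl⟩
    refine ⟨e x, ⟨x, hx, rfl⟩, ?_⟩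
    exact ((H43.toOrth Q').apply_symm_apply _).symm
  · rintro ⟨_, ⟨x, hx, rfl⟩, hg⟩
    exact ⟨x, hx, (H43.toOrth Q').symm_apply_eq.mpr hg⟩

variable {G : Type u} [Group G] [Finite G] {W : Type w} [AddCommGroup W] [Module (ZMod 2) W]
  [Fintype W] [DecidableEq W]
variable {D : Set G} {d : G} {B : W →ₗ[ZMod 2] W →ₗ[ZMod 2] ZMod 2} {pt : W → G} {m : ℕ}

/-- `G` is the orthogonal group on the extended space. -/
theorem SpLink.exists_orth (S : SpLink D d B pt m) :
    ∃ Q : QuadraticForm (ZMod 2) (Ext W), (H43.polB Q).Nondegenerate ∧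
      Module.finrank (ZMod 2) (Ext W) = 2 * (m + 1) ∧
      ∃ e : G ≃* H43.orthGroup Q, e '' D = H43.reflSet Q := by
  classical
  obtain ⟨a, ha, b, hb, hab, -⟩ := S.width
  obtain ⟨c₀, hc₀, hdc⟩ := class_exists_not_commute S.cls ⟨a, ha, b, hb, hab⟩ S.hd
  let Q := qExt S hc₀ hdc
  have hnd : (H43.polB Q).Nondegenerate := by
    have h1 : ∀ p : Ext W, (∀ q, H43.polB Q p q = 0) → p = 0 := by
      rintro ⟨s, α, β⟩ h
      have e1 := h (0, 1, 0)
      have e2 := h (0, 0, 1)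
      rw [polB_qExt] at e1 e2
      simp at e1 e2
      refine Prod.ext ?_ (Prod.ext e2 e1)
      by_contra hs
      obtain ⟨y, hy⟩ := S.nd s hs
      have e3 := h (y, 0, 0)
      rw [polB_qExt] at e3
      simp [hy] at e3
    exact ⟨h1, fun q hq => h1 q fun p => by rw [H43.polB_comm]; exact hq p⟩
  have hfW : Module.finrank (ZMod 2) W = 2 * m := by
    have h := Module.card_eq_pow_finrank (K := ZMod 2) (V := W)
    rw [S.card, ZMod.card] at h
    exact (Nat.pow_right_injective le_rfl h).symm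
  have hfr : Module.finrank (ZMod 2) (Ext W) = 2 * (m + 1) := by
    rw [Module.finrank_prod, Module.finrank_prod, hfW, Module.finrank_self]
    omega
  refine ⟨Q, hnd, hfr, ?_⟩
  have hdec : ∀ p : Ext W, Q p ≠ 0 → Q p = 1 := fun p hp => z2n _ hp
  have hqv : ∀ x : D, Q (vec S hc₀ hdc x) = 1 := fun x => qExt_vec S hc₀ hdc x x.2
  have hrefl_inj : ∀ v v', Q v = 1 → Q v' = 1 → H43.refl Q v = H43.refl Q v' → v = v' := by
    intro v v' hv hv' h
    have hv0 : v ≠ 0 := fun h0 => by rw [h0, map_zero] at hv; exact zero_ne_one hv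
    obtain ⟨y, hy⟩ := H43.exists_polB_eq hnd hv0 1
    have h1 := congrArg (fun g : H43.orthGroup Q => g.1 y) h
    simp only [H92.refl_two_apply hv, H92.refl_two_apply hv'] at h1
    rw [H43.polB_comm y v, hy, one_smul, add_right_inj] at h1
    rcases z2c (H43.polB Q y v') with h2 | h2
    · rw [h2, zero_smul] at h1; exact absurd h1 hv0
    · rwa [h2, one_smul] at h1
  let ψ : D ≃ H43.reflSet Q := Equiv.ofBijective
    (fun x => ⟨H43.refl Q (vec S hc₀ hdc x), _, by rw [hqv x]; exact one_ne_zero, rfl⟩)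
    ⟨fun x y h => Subtype.ext (vec_inj S hc₀ hdc x.2 y.2
      (hrefl_inj _ _ (hqv x) (hqv y) (congrArg Subtype.val h))), fun t => by
      obtain ⟨v, hv, ht⟩ := t.2
      obtain ⟨x, hx, hxv⟩ := vec_surj S hc₀ hdc (hdec v hv)
      exact ⟨⟨x, hx⟩, Subtype.ext (by rw [ht, ← hxv])⟩⟩
  have hconjT : ∀ g : H43.orthGroup Q, ∀ x ∈ H43.reflSet Q, g * x * g⁻¹ ∈ H43.reflSet Q := by
    rintro g _ ⟨v, hv, rfl⟩
    exact ⟨g.1 v, by rwa [H43.orth_qmap], H43.refl_conj g v⟩
  refine exists_iso_of_labelled (fun g x hx => S.conj g hx) hconjT S.cls.2.2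
    (H43.closure_reflSet hnd (Or.inr (by rw [hfr]; have := S.hm; omega))) ?_ ?_ ψ ?_
  · intro g hg
    have hcen : g ∈ Subgroup.center G := by
      rw [Subgroup.mem_center_iff]
      have hle : Subgroup.closure D ≤ Subgroup.centralizer {g} := by
        rw [Subgroup.closure_le]
        exact fun x hx =>
          Subgroup.mem_centralizer_singleton_iff.2 (mul_inv_eq_iff_eq_mul.1 (hg x hx)).symm
      intro y
      exact Subgroup.mem_centralizer_singleton_iff.1 (hle (S.cls.2.2 ▸ Subgroup.mem_top y))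
    rwa [S.center, Subgroup.mem_bot] at hcen
  · intro g hg
    have hfix : ∀ v, Q v = 1 → g.1 v = v := fun v hv => by
      have h := hg (H43.refl Q v) ⟨v, by rw [hv]; exact one_ne_zero, rfl⟩
      rw [H43.refl_conj] at h
      exact hrefl_inj _ _ (by rw [H43.orth_qmap]; exact hv) hv h
    have hi0 : ind (S.link c₀) (0 : W) = 0 := if_neg fun h => (S.mem_link.mp h).1 rfl
    refine H43.orth_ext fun p => ?_
    rw [H43.orth_one_apply]
    obtain ⟨s, α, β⟩ := p
    have f1 : g.1 ((0, 1, 0) : Ext W) = (0, 1, 0) := hfix _ (by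
      show qExt S hc₀ hdc _ = 1; rw [qExt_apply]; simp [hi0])
    have f2 : g.1 ((0, 0, 1) : Ext W) = (0, 0, 1) := hfix _ (by
      show qExt S hc₀ hdc _ = 1; rw [qExt_apply]; simp [hi0])
    have f3 : g.1 ((s, 1 + ind (S.link c₀) s, 0) : Ext W) = (s, 1 + ind (S.link c₀) s, 0) :=
      hfix _ (by
        show qExt S hc₀ hdc _ = 1; rw [qExt_apply]
        show ind (S.link c₀) s + (1 + ind (S.link c₀) s) + 0 + (1 + ind (S.link c₀) s) * 0 = 1
        generalize ind (S.link c₀) s = i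
        revert i; decide)
    have hp : ((s, α, β) : Ext W) = (s, 1 + ind (S.link c₀) s, 0) +
        (α + (1 + ind (S.link c₀) s)) • ((0, 1, 0) : Ext W) + β • ((0, 0, 1) : Ext W) := by
      refine Prod.ext ?_ (Prod.ext ?_ ?_)
      · simp
      · simp only [Prod.snd_add, Prod.fst_add, Prod.smul_snd, Prod.smul_fst, smul_eq_mul]
        generalize ind (S.link c₀) s = i
        revert i α β; decide
      · simp
    rw [hp, map_add, map_add, map_smul, map_smul, f1, f2, f3]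
  · intro x y
    show H43.refl Q (vec S hc₀ hdc ((x : G) * y * (x : G)⁻¹)) =
      H43.refl Q (vec S hc₀ hdc x) * H43.refl Q (vec S hc₀ hdc y) * (H43.refl Q (vec S hc₀ hdc x))⁻¹
    rw [H43.refl_conj, H92.refl_two_apply (hqv x), ← S.closed.cj_eq x.2, H43.polB_comm,
      ← row_eq_polB S hc₀ hdc x.2 y.2]
    by_cases h : Commute (x : G) (y : G)
    · rw [row_of_commute h, zero_smul, add_zero, S.closed.fix x.2 h]
    · rw [row_of_not h, one_smul, vec_cj S hc₀ hdc x.2 y.2 h, add_comm]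

/-- The symplectic step of Fischer's theorem. -/
theorem sp_step (S : SpLink D d B pt m) :
    (∃ m : ℕ, 3 ≤ m ∧ ∃ e : G ≃* ↥(Cfsg.isometryGroup (ZMod 2) (Cfsg.quadFormPlus m (ZMod 2))),
      e '' D = {g : ↥(Cfsg.isometryGroup (ZMod 2) (Cfsg.quadFormPlus m (ZMod 2))) | (((g : GL (Fin m ⊕ Fin m) (ZMod 2)) : Matrix (Fin m ⊕ Fin m) (Fin m ⊕ Fin m) (ZMod 2)) - 1).rank = 1}) ∨
    (∃ m : ℕ, 2 ≤ m ∧ ∃ e : G ≃* ↥(Cfsg.isometryGroup (ZMod 2) (Cfsg.quadFormMinus m (ZMod 2) 1 1)),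
      e '' D = {g : ↥(Cfsg.isometryGroup (ZMod 2) (Cfsg.quadFormMinus m (ZMod 2) 1 1)) | (((g : GL ((Fin m ⊕ Fin m) ⊕ Fin 2) (ZMod 2)) : Matrix ((Fin m ⊕ Fin m) ⊕ Fin 2) ((Fin m ⊕ Fin m) ⊕ Fin 2) (ZMod 2)) - 1).rank = 1}) := by
  obtain ⟨Q, hQ, hfr, e, he⟩ := S.exists_orth
  rcases H44.equiv_plus_or_minus hfr Q (H44.polarSep_of_nondegenerate hQ) with
    ⟨φ, hφ⟩ | ⟨-, ζ, φ, hζ, hφ⟩
  · exact Or.inl ⟨m + 1, by have := S.hm; omega,
      to_matrix_group Q (H43.qPlus (m + 1) (ZMod 2)) (H43.qPlus_nondeg _)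
        (H43.coe_qPlus (m + 1) (ZMod 2)) φ (fun x => (hφ x).symm) e he⟩
  · obtain rfl : ζ = 1 := z2n ζ fun h0 => hζ 0 (by rw [h0]; simp)
    refine Or.inr ⟨m + 1 - 1, by have := S.hm; omega,
      to_matrix_group Q (H43.qMinus (m + 1 - 1) (ZMod 2) 1 1) (H43.qMinus_nondeg_of_disc _ (by decide))
        (H43.coe_qMinus (m + 1 - 1) (ZMod 2) 1 1) φ (fun x => (hφ x).symm) e he⟩

end H51.FStep
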